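import Mathlib

set_option autoImplicit false

namespace Cfsg.Agent.Lib.Helper78

open Subgroup
open scoped commutatorElement

variable {G : Type*} [Group G]

/-- an element commuting with `x` lies in `zpowers x` -/
theorem sc_mem_zpowers_of_commute {x : G}
    (hC : Subgroup.centralizer ({x} : Set G) = Subgroup.zpowers x) {g : G} (h : g * x = x * g) :
    g ∈ Subgroup.zpowers x := by
  rw [← hC, Subgroup.mem_centralizer_singleton_iff]
  exact h

/-- nontrivial element of `zpowers x` generates it (prime order) -/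
theorem sc_zpowers_eq_of_mem {p : ℕ} (hp : p.Prime) {x : G} (hx : orderOf x = p) {z : G}
    (hz : z ∈ Subgroup.zpowers x) (hz1 : z ≠ 1) : Subgroup.zpowers z = Subgroup.zpowers x := by
  have : Fact p.Prime := ⟨hp⟩
  have hcard : Nat.card (Subgroup.zpowers x) = p := by rw [Nat.card_zpowers, hx]
  have hle : Subgroup.zpowers z ≤ Subgroup.zpowers x := by
    rw [Subgroup.zpowers_le]; exact hz
  have hfin : Finite (Subgroup.zpowers x) := Nat.finite_of_card_ne_zero (by rw [hcard]; exact hp.ne_zero)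
  have hdvd : Nat.card (Subgroup.zpowers z) ∣ p := by
    rw [← hcard]; exact Subgroup.card_dvd_of_le hle
  rcases (Nat.dvd_prime hp).1 hdvd with h1 | h1
  · exfalso
    rw [Nat.card_zpowers, orderOf_eq_one_iff] at h1
    exact hz1 h1
  · exact Subgroup.eq_of_le_of_card_ge hle (by rw [hcard, h1])

/-- Any `p`-subgroup containing `x` equals `zpowers x`. -/
theorem sc_pgroup_eq [Finite G] {p : ℕ} (hp : p.Prime) {x : G} (hx : orderOf x = p)
    (hC : Subgroup.centralizer ({x} : Set G) = Subgroup.zpowers x) (P : Subgroup G)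
    (hP : IsPGroup p P) (hxP : x ∈ P) : P = Subgroup.zpowers x := by
  have : Fact p.Prime := ⟨hp⟩
  have hx1 : x ≠ 1 := by
    intro h; rw [h, orderOf_one] at hx; exact hp.one_lt.ne hx
  have : Nontrivial P := ⟨⟨⟨x, hxP⟩, 1, by intro h; exact hx1 (congrArg Subtype.val h)⟩⟩
  have hnt := hP.center_nontrivial
  obtain ⟨⟨z, hzc⟩, hz1⟩ := exists_ne (1 : Subgroup.center P)
  have hz1' : (z : G) ≠ 1 := by
    intro h; apply hz1; ext; exact h
  have hzx : (z : G) * x = x * z := by
    have := (Subgroup.mem_center_iff.1 hzc) ⟨x, hxP⟩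
    exact (congrArg Subtype.val this).symm
  have hzmem := sc_mem_zpowers_of_commute hC hzx
  have heq := sc_zpowers_eq_of_mem hp hx hzmem hz1'
  apply le_antisymm
  · intro g hg
    apply sc_mem_zpowers_of_commute hC
    have hxz : x ∈ Subgroup.zpowers (z : G) := by rw [heq]; exact Subgroup.mem_zpowers x
    obtain ⟨k, hk⟩ := Subgroup.mem_zpowers_iff.1 hxz
    have hgz : g * (z : G) = z * g := by
      have := (Subgroup.mem_center_iff.1 hzc) ⟨g, hg⟩
      exact congrArg Subtype.val this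
    have : Commute g (z : G) := hgz
    rw [← hk]
    exact (this.zpow_right k)
  · rw [Subgroup.zpowers_le]; exact hxP


theorem sc_ne_one {p : ℕ} (hp : p.Prime) {x : G} (hx : orderOf x = p) : x ≠ 1 := by
  intro h; rw [h, orderOf_one] at hx; exact hp.one_lt.ne hx

theorem sc_isPGroup_zpowers {p : ℕ} (hp : p.Prime) {x : G} (hx : orderOf x = p) :
    IsPGroup p (Subgroup.zpowers x) := by
  have : Fact p.Prime := ⟨hp⟩
  apply IsPGroup.of_card (n := 1)
  rw [Nat.card_zpowers, hx, pow_one]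

/-- `zpowers x` is a Sylow `p`-subgroup. -/
theorem sc_exists_sylow [Finite G] {p : ℕ} (hp : p.Prime) {x : G} (hx : orderOf x = p)
    (hC : Subgroup.centralizer ({x} : Set G) = Subgroup.zpowers x) :
    ∃ P : Sylow p G, (P : Subgroup G) = Subgroup.zpowers x := by
  obtain ⟨Q, hQ⟩ := (sc_isPGroup_zpowers hp hx).exists_le_sylow
  exact ⟨Q, sc_pgroup_eq hp hx hC Q Q.2 (hQ (Subgroup.mem_zpowers x))⟩

/-- every `p`-subgroup is contained in a conjugate of `zpowers x`:
  every element `y` of a `p`-subgroup is of the form `g * x ^ k * g⁻¹`, uniformly in `g`. -/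
theorem sc_pgroup_conj [Finite G] {p : ℕ} (hp : p.Prime) {x : G} (hx : orderOf x = p)
    (hC : Subgroup.centralizer ({x} : Set G) = Subgroup.zpowers x) (Q : Subgroup G)
    (hQ : IsPGroup p Q) : ∃ g : G, ∀ y ∈ Q, g⁻¹ * y * g ∈ Subgroup.zpowers x := by
  have : Fact p.Prime := ⟨hp⟩
  obtain ⟨P, hP⟩ := sc_exists_sylow hp hx hC
  obtain ⟨R, hR⟩ := hQ.exists_le_sylow
  obtain ⟨g, hg⟩ := MulAction.exists_smul_eq G P R
  refine ⟨g, fun y hy => ?_⟩
  have h1 : y ∈ ((g • P : Sylow p G) : Subgroup G) := by rw [hg]; exact hR hy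
  rw [Sylow.coe_subgroup_smul, Subgroup.mem_pointwise_smul_iff_inv_smul_mem, hP] at h1
  simpa [MulAut.smul_def, MulAut.conj_apply] using h1


/-- a normal subgroup of order divisible by `p` contains `x`. -/
theorem sc_mem_normal [Finite G] {p : ℕ} (hp : p.Prime) {x : G} (hx : orderOf x = p)
    (hC : Subgroup.centralizer ({x} : Set G) = Subgroup.zpowers x) (S : Subgroup G) [S.Normal]
    (hS : p ∣ Nat.card S) : x ∈ S := by
  have : Fact p.Prime := ⟨hp⟩
  obtain ⟨y, hy⟩ := exists_prime_orderOf_dvd_card' p hS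
  have hy' : orderOf (y : G) = p := by rw [Subgroup.orderOf_coe, hy]
  obtain ⟨g, hg⟩ := sc_pgroup_conj hp hx hC (Subgroup.zpowers (y : G)) (sc_isPGroup_zpowers hp hy')
  have h1 := hg y (Subgroup.mem_zpowers _)
  have h2 : g⁻¹ * (y : G) * g ≠ 1 := by
    intro h
    apply sc_ne_one hp hy'
    have : (y : G) = g * (g⁻¹ * (y : G) * g) * g⁻¹ := by group
    rw [this, h]; group
  have h3 := sc_zpowers_eq_of_mem hp hx h1 h2
  have h4 : g⁻¹ * (y : G) * g ∈ S := by
    have := ‹S.Normal›.conj_mem y y.2 g⁻¹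
    simpa using this
  have h5 : Subgroup.zpowers (g⁻¹ * (y : G) * g) ≤ S := by
    rw [Subgroup.zpowers_le]; exact h4
  rw [h3] at h5
  exact h5 (Subgroup.mem_zpowers x)

theorem sc_mem_normalizer_iff {x : G} {n : G} [Finite G] :
    n ∈ Subgroup.normalizer ((Subgroup.zpowers x : Subgroup G) : Set G) ↔
      n * x * n⁻¹ ∈ Subgroup.zpowers x := by
  constructor
  · intro h
    exact (Subgroup.mem_normalizer_iff.1 h x).1 (Subgroup.mem_zpowers x)
  · intro h
    rw [Subgroup.mem_normalizer_iff_map_conj_eq]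
    have hle : (Subgroup.zpowers x).map (MulAut.conj n : G →* G) ≤ Subgroup.zpowers x := by
      rw [MonoidHom.map_zpowers, Subgroup.zpowers_le]
      simpa using h
    apply Subgroup.eq_of_le_of_card_ge hle
    rw [Subgroup.card_map_of_injective]
    exact (MulAut.conj n).injective

/-- commutators of elements normalizing `zpowers x` lie in `zpowers x`. -/
theorem sc_commutator_mem {x : G}
    (hC : Subgroup.centralizer ({x} : Set G) = Subgroup.zpowers x) {n m : G}
    (hn : n * x * n⁻¹ ∈ Subgroup.zpowers x) (hm : m * x * m⁻¹ ∈ Subgroup.zpowers x) :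
    ⁅n, m⁆ ∈ Subgroup.zpowers x := by
  obtain ⟨a, ha⟩ := Subgroup.mem_zpowers_iff.1 hn
  obtain ⟨b, hb⟩ := Subgroup.mem_zpowers_iff.1 hm
  have h1 : (n * m) * x * (n * m)⁻¹ = x ^ (a * b) := by
    have : (n * m) * x * (n * m)⁻¹ = n * (m * x * m⁻¹) * n⁻¹ := by group
    rw [this, ← hb, ← conj_zpow, ← ha, ← zpow_mul]
  have h2 : (m * n) * x * (m * n)⁻¹ = x ^ (a * b) := by
    have : (m * n) * x * (m * n)⁻¹ = m * (n * x * n⁻¹) * m⁻¹ := by group
    rw [this, ← ha, ← conj_zpow, ← hb, ← zpow_mul, mul_comm]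
  have h3 : ((m * n)⁻¹ * (n * m)) * x = x * ((m * n)⁻¹ * (n * m)) := by
    have h4 : (n * m) * x * (n * m)⁻¹ = (m * n) * x * (m * n)⁻¹ := by rw [h1, h2]
    have h5 : (n * m) * x = (m * n) * x * (m * n)⁻¹ * (n * m) := by
      rw [← h4]; group
    calc ((m * n)⁻¹ * (n * m)) * x = (m * n)⁻¹ * ((n * m) * x) := by group
      _ = (m * n)⁻¹ * ((m * n) * x * (m * n)⁻¹ * (n * m)) := by rw [h5]
      _ = x * ((m * n)⁻¹ * (n * m)) := by group
  have h6 := sc_mem_zpowers_of_commute hC h3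
  -- ⁅n, m⁆ = n m n⁻¹ m⁻¹ = (m n) ((m n)⁻¹ (n m)) (m n)⁻¹
  obtain ⟨c, hc⟩ := Subgroup.mem_zpowers_iff.1 h6
  have h7 : ⁅n, m⁆ = (m * n) * ((m * n)⁻¹ * (n * m)) * (m * n)⁻¹ := by
    rw [commutatorElement_def]; group
  rw [h7, ← hc, ← conj_zpow, h2, ← zpow_mul]
  exact Subgroup.zpow_mem_zpowers _ _


/-- Frattini argument: `G = N_G(⟨x⟩) S` for `S` normal containing `x`. -/
theorem sc_frattini [Finite G] {p : ℕ} (hp : p.Prime) {x : G} (hx : orderOf x = p)
    (hC : Subgroup.centralizer ({x} : Set G) = Subgroup.zpowers x) (S : Subgroup G) [S.Normal]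
    (hxS : x ∈ S) :
    Subgroup.normalizer ((Subgroup.zpowers x : Subgroup G) : Set G) ⊔ S = ⊤ := by
  have : Fact p.Prime := ⟨hp⟩
  have h1 : IsPGroup p ((Subgroup.zpowers x).subgroupOf S) :=
    (sc_isPGroup_zpowers hp hx).comap_subtype
  obtain ⟨P, hP⟩ := h1.exists_le_sylow
  have h2 : (P : Subgroup S).map S.subtype = Subgroup.zpowers x := by
    apply sc_pgroup_eq hp hx hC
    · exact P.2.map _
    · refine ⟨⟨x, hxS⟩, hP ?_, rfl⟩
      rw [Subgroup.mem_subgroupOf]
      exact Subgroup.mem_zpowers x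
  have h3 := Sylow.normalizer_sup_eq_top P
  rw [h2] at h3
  exact h3

/-- every normal subgroup of order divisible by `p` contains the commutator subgroup. -/
theorem sc_commutator_le [Finite G] {p : ℕ} (hp : p.Prime) {x : G} (hx : orderOf x = p)
    (hC : Subgroup.centralizer ({x} : Set G) = Subgroup.zpowers x) (S : Subgroup G) [S.Normal]
    (hS : p ∣ Nat.card S) : commutator G ≤ S := by
  have hxS := sc_mem_normal hp hx hC S hS
  have hF := sc_frattini hp hx hC S hxS
  have key : ∀ g : G, ∃ n ∈ Subgroup.normalizer ((Subgroup.zpowers x : Subgroup G) : Set G),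
      (QuotientGroup.mk g : G ⧸ S) = QuotientGroup.mk n := by
    intro g
    have hg : g ∈ Subgroup.normalizer ((Subgroup.zpowers x : Subgroup G) : Set G) ⊔ S := by
      rw [hF]; exact Subgroup.mem_top g
    rw [← SetLike.mem_coe, Subgroup.mul_normal] at hg
    obtain ⟨n, hn, s, hs, rfl⟩ := Set.mem_mul.1 hg
    refine ⟨n, hn, ?_⟩
    rw [QuotientGroup.mk_mul, (QuotientGroup.eq_one_iff s).2 hs, mul_one]
  rw [commutator_def, Subgroup.commutator_le]
  intro g₁ _ g₂ _
  obtain ⟨n₁, hn₁, h₁⟩ := key g₁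
  obtain ⟨n₂, hn₂, h₂⟩ := key g₂
  rw [← QuotientGroup.eq_one_iff]
  have h3 : ((⁅g₁, g₂⁆ : G) : G ⧸ S) = ((⁅n₁, n₂⁆ : G) : G ⧸ S) := by
    simp only [commutatorElement_def, QuotientGroup.mk_mul, QuotientGroup.mk_inv, h₁, h₂]
  rw [h3, QuotientGroup.eq_one_iff]
  have h4 := sc_commutator_mem hC (sc_mem_normalizer_iff.1 hn₁) (sc_mem_normalizer_iff.1 hn₂)
  have h5 : Subgroup.zpowers x ≤ S := by rw [Subgroup.zpowers_le]; exact hxS
  exact h5 h4


/-- an element of a subgroup of order prime to `p` which commutes with `x` is trivial -/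
theorem sc_eq_one_of_commute [Finite G] {p : ℕ} (hp : p.Prime) {x : G} (hx : orderOf x = p)
    (hC : Subgroup.centralizer ({x} : Set G) = Subgroup.zpowers x) (S : Subgroup G)
    (hS : ¬ p ∣ Nat.card S) {s : G} (hs : s ∈ S) (hsx : s * x = x * s) : s = 1 := by
  by_contra hs1
  have h1 := sc_mem_zpowers_of_commute hC hsx
  have h2 := sc_zpowers_eq_of_mem hp hx h1 hs1
  apply hS
  have h3 : Subgroup.zpowers s ≤ S := by rw [Subgroup.zpowers_le]; exact hs
  have h4 := Subgroup.card_dvd_of_le h3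
  rwa [h2, Nat.card_zpowers, hx] at h4

/-- every element of a normal `p'`-subgroup is a commutator `s x s⁻¹ x⁻¹` with `s ∈ S` -/
theorem sc_exists_commutator [Finite G] {p : ℕ} (hp : p.Prime) {x : G} (hx : orderOf x = p)
    (hC : Subgroup.centralizer ({x} : Set G) = Subgroup.zpowers x) (S : Subgroup G) [hN : S.Normal]
    (hS : ¬ p ∣ Nat.card S) {u : G} (hu : u ∈ S) : ∃ s ∈ S, s * x * s⁻¹ * x⁻¹ = u := by
  let f : S → S := fun s => ⟨(s : G) * x * (s : G)⁻¹ * x⁻¹, by
    have h1 : x * (s : G)⁻¹ * x⁻¹ ∈ S := hN.conj_mem _ (S.inv_mem s.2) x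
    have h2 := S.mul_mem s.2 h1
    have h3 : (s : G) * x * (s : G)⁻¹ * x⁻¹ = (s : G) * (x * (s : G)⁻¹ * x⁻¹) := by group
    rw [h3]; exact h2⟩
  have hinj : Function.Injective f := by
    intro s t hst
    have h1 : (s : G) * x * (s : G)⁻¹ * x⁻¹ = (t : G) * x * (t : G)⁻¹ * x⁻¹ :=
      congrArg Subtype.val hst
    have h2 : (s : G) * x * (s : G)⁻¹ = (t : G) * x * (t : G)⁻¹ := mul_right_cancel h1
    have h3 : ((t : G)⁻¹ * s) * x = x * ((t : G)⁻¹ * s) := by
      calc ((t : G)⁻¹ * s) * x = (t : G)⁻¹ * ((s : G) * x * (s : G)⁻¹) * s := by group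
        _ = (t : G)⁻¹ * ((t : G) * x * (t : G)⁻¹) * s := by rw [h2]
        _ = x * ((t : G)⁻¹ * s) := by group
    have h4 := sc_eq_one_of_commute hp hx hC S hS (S.mul_mem (S.inv_mem t.2) s.2) h3
    ext
    exact (inv_mul_eq_one.1 h4).symm
  obtain ⟨s, hs⟩ := (Finite.injective_iff_surjective.1 hinj) ⟨u, hu⟩
  exact ⟨s, s.2, congrArg Subtype.val hs⟩

theorem sc_card_mod [Finite G] {p : ℕ} (hp : p.Prime) {x : G} (hx : orderOf x = p)
    (hC : Subgroup.centralizer ({x} : Set G) = Subgroup.zpowers x) (S : Subgroup G) [hN : S.Normal]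
    (hS : ¬ p ∣ Nat.card S) : Nat.card S % p = 1 := by
  have : Fact p.Prime := ⟨hp⟩
  let _ : MulAction (Subgroup.zpowers x) S :=
    MulAction.compHom S ((MulAut.conjNormal (H := S)).comp (Subgroup.zpowers x).subtype)
  have h1 := (sc_isPGroup_zpowers hp hx).card_modEq_card_fixedPoints S
  have h2 : MulAction.fixedPoints (Subgroup.zpowers x) S = {1} := by
    ext s
    simp only [MulAction.mem_fixedPoints, Set.mem_singleton_iff]
    constructor
    · intro h
      have h3 := h ⟨x, Subgroup.mem_zpowers x⟩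
      have h4 : x * (s : G) * x⁻¹ = s := congrArg Subtype.val h3
      have h5 : (s : G) * x = x * s := by
        calc (s : G) * x = (x * (s : G) * x⁻¹) * x := by rw [h4]
          _ = x * s := by group
      ext
      exact sc_eq_one_of_commute hp hx hC S hS s.2 h5
    · rintro rfl g
      ext
      change (g : G) * ((1 : S) : G) * (g : G)⁻¹ = ((1 : S) : G)
      simp
  rw [h2] at h1
  have h6 : Nat.card (({1} : Set S) : Type _) = 1 := by simp
  rw [h6] at h1
  have h7 : Nat.card S % p = 1 % p := h1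
  rw [h7, Nat.mod_eq_of_lt hp.one_lt]


theorem sc_factorization [Finite G] {p : ℕ} (hp : p.Prime) {x : G} (hx : orderOf x = p)
    (hC : Subgroup.centralizer ({x} : Set G) = Subgroup.zpowers x) :
    (Nat.card G).factorization p = 1 := by
  have : Fact p.Prime := ⟨hp⟩
  obtain ⟨P, hP⟩ := sc_exists_sylow hp hx hC
  have h1 := P.card_eq_multiplicity
  rw [hP, Nat.card_zpowers, hx] at h1
  have h2 : p ^ 1 = p ^ (Nat.card G).factorization p := by rw [pow_one]; exact h1
  exact (Nat.pow_right_injective hp.two_le h2).symm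

/-- the number of subgroups of order `p` is the index of the normalizer of `zpowers x`. -/
theorem sc_card_subgroups [Finite G] {p : ℕ} (hp : p.Prime) {x : G} (hx : orderOf x = p)
    (hC : Subgroup.centralizer ({x} : Set G) = Subgroup.zpowers x) :
    Nat.card {H : Subgroup G // Nat.card H = p} =
      (Subgroup.normalizer ((Subgroup.zpowers x : Subgroup G) : Set G)).index := by
  have : Fact p.Prime := ⟨hp⟩
  obtain ⟨P, hP⟩ := sc_exists_sylow hp hx hC
  have hf := sc_factorization hp hx hC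
  rw [← hP]
  refine Eq.trans ?_ (Sylow.card_eq_index_normalizer P)
  apply Nat.card_congr
  refine ⟨fun H => Sylow.ofCard H.1 (by rw [hf, pow_one]; exact H.2),
    fun Q => ⟨Q, by rw [Q.card_eq_multiplicity, hf, pow_one]⟩, ?_, ?_⟩
  · intro H
    ext
    simp
  · intro Q
    ext
    simp

/-- `|S|` divides the index of the normalizer. -/
theorem sc_card_dvd_index [Finite G] {p : ℕ} (hp : p.Prime) {x : G} (hx : orderOf x = p)
    (hC : Subgroup.centralizer ({x} : Set G) = Subgroup.zpowers x) (S : Subgroup G) [hN : S.Normal]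
    (hS : ¬ p ∣ Nat.card S) :
    Nat.card S ∣ (Subgroup.normalizer ((Subgroup.zpowers x : Subgroup G) : Set G)).index := by
  set N := Subgroup.normalizer ((Subgroup.zpowers x : Subgroup G) : Set G) with hNdef
  have hinf : S ⊓ N = ⊥ := by
    rw [eq_bot_iff]
    intro s hs
    obtain ⟨hs1, hs2⟩ := Subgroup.mem_inf.1 hs
    rw [Subgroup.mem_bot]
    apply sc_eq_one_of_commute hp hx hC S hS hs1
    -- s x s⁻¹ x⁻¹ ∈ S ∩ zpowers x
    have h1 : s * x * s⁻¹ ∈ Subgroup.zpowers x := sc_mem_normalizer_iff.1 hs2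
    have h2 : s * x * s⁻¹ * x⁻¹ ∈ Subgroup.zpowers x :=
      Subgroup.mul_mem _ h1 (Subgroup.inv_mem _ (Subgroup.mem_zpowers x))
    have h3 : s * x * s⁻¹ * x⁻¹ ∈ S := by
      have h4 : x * s⁻¹ * x⁻¹ ∈ S := hN.conj_mem _ (S.inv_mem hs1) x
      have h5 : s * x * s⁻¹ * x⁻¹ = s * (x * s⁻¹ * x⁻¹) := by group
      rw [h5]; exact S.mul_mem hs1 h4
    have h6 : (s * x * s⁻¹ * x⁻¹) * x = x * (s * x * s⁻¹ * x⁻¹) := by
      obtain ⟨k, hk⟩ := Subgroup.mem_zpowers_iff.1 h2
      rw [← hk]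
      exact ((Commute.refl x).zpow_left k)
    have h7 := sc_eq_one_of_commute hp hx hC S hS h3 h6
    calc s * x = (s * x * s⁻¹ * x⁻¹) * (x * s) := by group
      _ = x * s := by rw [h7, one_mul]
  have h1 : S.relIndex (N ⊔ S) = Nat.card N := by
    rw [Subgroup.relIndex_sup_right, ← Subgroup.inf_relIndex_right, hinf, Subgroup.relIndex_bot_left]
  have h2 : S.relIndex (N ⊔ S) * (N ⊔ S).index = S.index :=
    Subgroup.relIndex_mul_index le_sup_right
  have h3 := Subgroup.card_mul_index S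
  have h4 := Subgroup.card_mul_index N
  rw [← h2, h1, ← h4] at h3
  have hpos : 0 < Nat.card N := Nat.card_pos
  refine ⟨(N ⊔ S).index, ?_⟩
  have h5 : Nat.card N * (Nat.card S * (N ⊔ S).index) = Nat.card N * N.index := by
    rw [← h3]; ring
  exact (Nat.eq_of_mul_eq_mul_left hpos h5).symm


theorem sc_not_mem [Finite G] {p : ℕ} (hp : p.Prime) {x : G} (hx : orderOf x = p)
    (S : Subgroup G) (hS : ¬ p ∣ Nat.card S) : x ∉ S := by
  intro h
  apply hS
  have h3 : Subgroup.zpowers x ≤ S := by rw [Subgroup.zpowers_le]; exact h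
  have h4 := Subgroup.card_dvd_of_le h3
  rwa [Nat.card_zpowers, hx] at h4

theorem sc_orderOf_mk [Finite G] {p : ℕ} (hp : p.Prime) {x : G} (hx : orderOf x = p)
    (S : Subgroup G) [hN : S.Normal] (hS : ¬ p ∣ Nat.card S) :
    orderOf (QuotientGroup.mk x : G ⧸ S) = p := by
  have : Fact p.Prime := ⟨hp⟩
  apply orderOf_eq_prime
  · rw [← QuotientGroup.mk_pow, ← hx, pow_orderOf_eq_one]; rfl
  · intro h
    exact sc_not_mem hp hx S hS ((QuotientGroup.eq_one_iff x).1 h)

theorem sc_centralizer_mk [Finite G] {p : ℕ} (hp : p.Prime) {x : G} (hx : orderOf x = p)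
    (hC : Subgroup.centralizer ({x} : Set G) = Subgroup.zpowers x) (S : Subgroup G) [hN : S.Normal]
    (hS : ¬ p ∣ Nat.card S) :
    Subgroup.centralizer ({(QuotientGroup.mk x : G ⧸ S)} : Set (G ⧸ S)) =
      Subgroup.zpowers (QuotientGroup.mk x : G ⧸ S) := by
  apply le_antisymm
  · intro gb hgb
    obtain ⟨g, rfl⟩ := QuotientGroup.mk_surjective gb
    rw [Subgroup.mem_centralizer_singleton_iff] at hgb
    have h1 : g * x * g⁻¹ * x⁻¹ ∈ S := by
      rw [← QuotientGroup.eq_one_iff]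
      simp only [QuotientGroup.mk_mul, QuotientGroup.mk_inv]
      rw [hgb]; group
    obtain ⟨s, hs, hsx⟩ := sc_exists_commutator hp hx hC S hS h1
    have h2 : s * x * s⁻¹ = g * x * g⁻¹ := mul_right_cancel hsx
    have h3 : (s⁻¹ * g) * x = x * (s⁻¹ * g) := by
      calc (s⁻¹ * g) * x = s⁻¹ * (g * x * g⁻¹) * g := by group
        _ = s⁻¹ * (s * x * s⁻¹) * g := by rw [h2]
        _ = x * (s⁻¹ * g) := by group
    obtain ⟨k, hk⟩ := Subgroup.mem_zpowers_iff.1 (sc_mem_zpowers_of_commute hC h3)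
    rw [Subgroup.mem_zpowers_iff]
    refine ⟨k, ?_⟩
    rw [← QuotientGroup.mk_zpow, hk, QuotientGroup.mk_mul, QuotientGroup.mk_inv,
      (QuotientGroup.eq_one_iff s).2 hs]
    simp
  · rw [Subgroup.zpowers_le, Subgroup.mem_centralizer_singleton_iff]

end Cfsg.Agent.Lib.Helper78
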