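import Cfsg.Agent.Lib.Helper1.PGroup

set_option autoImplicit false

namespace Cfsg.Agent.Lib.Helper78

variable {G : Type*} [Group G]

/-- the subgroup generated by all squares -/
def sqSub (G : Type*) [Group G] : Subgroup G := Subgroup.closure (Set.range fun g : G => g * g)

theorem sq_mem_sqSub (g : G) : g * g ∈ sqSub G := Subgroup.subset_closure ⟨g, rfl⟩

instance sqSub_normal : (sqSub G).Normal := by
  constructor
  intro n hn g
  have h1 : (sqSub G).map (MulAut.conj g).toMonoidHom ≤ sqSub G := by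
    unfold sqSub
    rw [MonoidHom.map_closure, Subgroup.closure_le]
    rintro _ ⟨_, ⟨h, rfl⟩, rfl⟩
    apply Subgroup.subset_closure
    refine ⟨g * h * g⁻¹, ?_⟩
    simp
  exact h1 ⟨n, hn, rfl⟩

theorem commutator_le_sqSub : commutator G ≤ sqSub G := by
  rw [commutator_eq_closure, Subgroup.closure_le]
  rintro _ ⟨a, b, rfl⟩
  have h : a * b * a⁻¹ * b⁻¹ =
      (a * b) * (a * b) * ((b⁻¹ * a⁻¹ * b) * (b⁻¹ * a⁻¹ * b)) * (b⁻¹ * b⁻¹) := by group
  change a * b * a⁻¹ * b⁻¹ ∈ sqSub G
  rw [h]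
  exact (sqSub G).mul_mem ((sqSub G).mul_mem (sq_mem_sqSub _) (sq_mem_sqSub _)) (sq_mem_sqSub _)

theorem sqSub_le_frattini [Finite G] (hG : IsPGroup 2 G) : sqSub G ≤ frattini G := by
  have : Fact (Nat.Prime 2) := ⟨Nat.prime_two⟩
  rw [Helper1.le_frattini_iff]
  intro M hM
  unfold sqSub
  rw [Subgroup.closure_le]
  rintro _ ⟨g, rfl⟩
  have := Helper1.pgroup_pow_mem_coatom hG hM g
  rwa [pow_two] at this

theorem four_dvd_index_sqSub [Finite G] (hG : IsPGroup 2 G) (hc : ¬ IsCyclic G) :
    4 ∣ (sqSub G).index := by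
  obtain ⟨r, hr⟩ := hG.index (sqSub G)
  have hle := sqSub_le_frattini hG
  rcases r with _ | _ | r
  · exfalso
    apply hc
    rw [pow_zero, Subgroup.index_eq_one] at hr
    have h1 : (⊥ : Subgroup G) ⊔ frattini G = ⊤ := by
      rw [eq_top_iff, ← hr]
      exact hle.trans le_sup_right
    have h2 := frattini_nongenerating h1
    have : Subsingleton G := by
      rw [← Subgroup.subsingleton_iff]
      exact subsingleton_of_bot_eq_top h2
    infer_instance
  · exfalso
    apply hc
    rw [zero_add, pow_one] at hr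
    have hne : sqSub G ≠ ⊤ := by
      intro h
      rw [h, Subgroup.index_top] at hr
      omega
    obtain ⟨x, -, hx⟩ := SetLike.exists_of_lt (lt_top_iff_ne_top.2 hne)
    have h1 := Subgroup.relIndex_mul_index (le_sup_left : sqSub G ≤ sqSub G ⊔ Subgroup.zpowers x)
    rw [hr] at h1
    have h2 : (sqSub G).relIndex (sqSub G ⊔ Subgroup.zpowers x) ≠ 1 := by
      rw [Ne, Subgroup.relIndex_eq_one]
      intro h
      exact hx (h (le_sup_right (a := sqSub G) (Subgroup.mem_zpowers x)))
    have h3 : (sqSub G ⊔ Subgroup.zpowers x).index = 1 := by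
      have h4 : (sqSub G).relIndex (sqSub G ⊔ Subgroup.zpowers x) ∣ 2 := Dvd.intro _ h1
      rcases (Nat.dvd_prime Nat.prime_two).1 h4 with h5 | h5
      · exact absurd h5 h2
      · rw [h5] at h1
        omega
    rw [Subgroup.index_eq_one] at h3
    have h4 : Subgroup.zpowers x ⊔ frattini G = ⊤ := by
      rw [eq_top_iff, ← h3, sup_comm]
      exact sup_le_sup_left hle _
    have h5 := frattini_nongenerating h4
    exact isCyclic_iff_exists_zpowers_eq_top.2 ⟨x, h5⟩
  · rw [hr]
    exact ⟨2 ^ r, by ring⟩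

end Cfsg.Agent.Lib.Helper78
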