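import Cfsg.Agent.Lib.Helper78.FrobSchur3
import Cfsg.Agent.Lib.Helper78.SqSub
import Cfsg.Agent.Lib.Helper79.Central

set_option autoImplicit false

namespace Cfsg.Agent.Lib.Helper78

open scoped ComplexConjugate
open Cfsg

theorem even_card_of_involution {α : Type*} (s : Finset α) (g : α → α)
    (hmem : ∀ a ∈ s, g a ∈ s) (hne : ∀ a ∈ s, g a ≠ a) (hinv : ∀ a ∈ s, g (g a) = a) :
    Even s.card := by
  have h : ∑ _x ∈ s, (1 : ZMod 2) = 0 :=
    Finset.sum_involution (fun a _ => g a) (fun _ _ => by decide) (fun a ha _ => hne a ha)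
      hmem hinv
  rw [Finset.sum_const, nsmul_eq_mul, mul_one] at h
  exact (ZMod.natCast_eq_zero_iff_even).1 h

variable {G : Type*} [Group G] [Fintype G]

/-- complex conjugate of an irreducible character -/
noncomputable def conjIrr (χ : IrrCharacter G) : IrrCharacter G :=
  ⟨fun g => conj ((χ : G → ℂ) g), by
    rw [Helper20.isIrrCharacter_iff]
    refine ⟨Helper20.isCharacter_conj (Helper82.isIrr_isChar χ.2), ?_⟩
    rw [← Helper20.classInner_irr_self χ.2]
    unfold classInner
    congr 1
    apply Finset.sum_congr rfl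
    intro g _
    rw [Complex.conj_conj, mul_comm]⟩

theorem conjIrr_apply (χ : IrrCharacter G) (g : G) :
    (conjIrr χ : G → ℂ) g = conj ((χ : G → ℂ) g) := rfl

theorem conjIrr_conjIrr (χ : IrrCharacter G) : conjIrr (conjIrr χ) = χ := by
  apply Subtype.ext
  funext g
  simp [conjIrr_apply]

theorem charDegree_conjIrr (χ : IrrCharacter G) :
    charDegree (conjIrr χ : G → ℂ) = charDegree (χ : G → ℂ) := by
  unfold charDegree
  rw [conjIrr_apply, Complex.conj_re]

theorem conjIrr_eq_iff (χ : IrrCharacter G) :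
    conjIrr χ = χ ↔ ∀ g : G, ((χ : G → ℂ) g).im = 0 := by
  constructor
  · intro h g
    have := congrFun (congrArg Subtype.val h) g
    exact Complex.conj_eq_iff_im.1 this
  · intro h
    apply Subtype.ext
    funext g
    exact Complex.conj_eq_iff_im.2 (h g)

open Classical in
/-- the number of irreducible characters of a given degree has the parity of the number of real ones -/
theorem card_degree_parity [Fintype (IrrCharacter G)] (k : ℕ) :
    (Finset.univ.filter (fun χ : IrrCharacter G => charDegree (χ : G → ℂ) = k)).card % 2 =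
      (Finset.univ.filter (fun χ : IrrCharacter G =>
        charDegree (χ : G → ℂ) = k ∧ ∀ g : G, ((χ : G → ℂ) g).im = 0)).card % 2 := by
  classical
  have h1 := Finset.card_filter_add_card_filter_not
    (s := Finset.univ.filter (fun χ : IrrCharacter G => charDegree (χ : G → ℂ) = k))
    (fun χ : IrrCharacter G => ∀ g : G, ((χ : G → ℂ) g).im = 0)
  rw [Finset.filter_filter, Finset.filter_filter] at h1
  have h2 : Even (Finset.univ.filter (fun χ : IrrCharacter G =>
      charDegree (χ : G → ℂ) = k ∧ ¬ ∀ g : G, ((χ : G → ℂ) g).im = 0)).card := by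
    apply even_card_of_involution _ conjIrr
    · intro χ hχ
      simp only [Finset.mem_filter, Finset.mem_univ, true_and] at hχ ⊢
      refine ⟨by rw [charDegree_conjIrr]; exact hχ.1, fun h => hχ.2 ?_⟩
      rw [← conjIrr_eq_iff] at h ⊢
      rw [conjIrr_conjIrr] at h
      exact h.symm
    · intro χ hχ
      simp only [Finset.mem_filter, Finset.mem_univ, true_and] at hχ
      rw [Ne, conjIrr_eq_iff]
      exact hχ.2
    · intro χ _
      exact conjIrr_conjIrr χ
  obtain ⟨c, hc⟩ := h2
  omega


omit [Fintype G] in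
theorem charDegree_eq_one_iff (χ : IrrCharacter G) :
    charDegree (χ : G → ℂ) = 1 ↔ (χ : G → ℂ) 1 = 1 := by
  rw [Helper82.isChar_one_eq (Helper82.isIrr_isChar χ.2)]
  norm_cast

theorem charDegree_eq_one_of_commutator_le_ker (χ : IrrCharacter G)
    (h : ∀ x ∈ commutator G, (χ : G → ℂ) x = (χ : G → ℂ) 1) : charDegree (χ : G → ℂ) = 1 := by
  obtain ⟨ψ, hψ, hψχ⟩ := Helper82.isIrr_deflate χ.2 (commutator G) h
  have hc : IsMulCommutative (G ⧸ commutator G) :=
    Subgroup.Normal.quotient_commutative_iff_commutator_le.2 le_rfl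
  have h1 := Helper79.IsIrrCharacter.one_eq_one_of_comm hψ (fun a b => mul_comm' a b)
  rw [charDegree_eq_one_iff, ← hψχ 1]
  exact h1

theorem commutator_le_ker_of_charDegree_eq_one (χ : IrrCharacter G)
    (h : charDegree (χ : G → ℂ) = 1) : ∀ x ∈ commutator G, (χ : G → ℂ) x = (χ : G → ℂ) 1 := by
  rw [charDegree_eq_one_iff] at h
  intro x hx
  rw [h]
  exact Helper82.isChar_linear_commutator (Helper82.isIrr_isChar χ.2) h hx

theorem fsNuZ_eq_one_of_sqSub_le_ker (χ : IrrCharacter G)
    (h : ∀ x ∈ sqSub G, (χ : G → ℂ) x = (χ : G → ℂ) 1) :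
    charDegree (χ : G → ℂ) = 1 ∧ fsNuZ (χ : G → ℂ) = 1 := by
  have h1 := charDegree_eq_one_of_commutator_le_ker χ (fun x hx => h x (commutator_le_sqSub hx))
  refine ⟨h1, ?_⟩
  rw [charDegree_eq_one_iff] at h1
  have h2 : fsNu (χ : G → ℂ) = 1 := by
    unfold fsNu
    rw [Finset.sum_congr rfl (fun s _ => (h (s * s) (sq_mem_sqSub s)).trans h1), Finset.sum_const,
      Finset.card_univ, ← Nat.card_eq_fintype_card, nsmul_eq_mul, mul_one,
      inv_mul_cancel₀ Helper20.card_ne_zero_complex]
  unfold fsNuZ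
  rw [h2]; simp

theorem fsNuZ_eq_zero_of_linear (χ : IrrCharacter G) (hd : charDegree (χ : G → ℂ) = 1)
    (h : ¬ ∀ x ∈ sqSub G, (χ : G → ℂ) x = (χ : G → ℂ) 1) : fsNuZ (χ : G → ℂ) = 0 := by
  rw [fsNuZ_eq_zero_iff χ.2]
  by_contra hcon
  push Not at hcon
  apply h
  rw [charDegree_eq_one_iff] at hd
  have hch := Helper82.isIrr_isChar χ.2
  have hle : sqSub G ≤ Helper82.charKer (χ : G → ℂ) hch := by
    unfold sqSub
    rw [Subgroup.closure_le]
    rintro _ ⟨g, rfl⟩
    change (χ : G → ℂ) (g * g) = (χ : G → ℂ) 1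
    rw [Helper82.isChar_linear_mul hch hd, hd]
    have h1 := Helper82.isChar_linear_mul_conj hch hd g
    rwa [Complex.conj_eq_iff_im.2 (hcon g)] at h1
  exact fun x hx => hle hx

open Classical in
theorem card_filter_ker_eq_index [Fintype (IrrCharacter G)] (N : Subgroup G) [N.Normal]
    (hN : commutator G ≤ N) :
    (Finset.univ.filter (fun χ : IrrCharacter G =>
      ∀ x ∈ N, (χ : G → ℂ) x = (χ : G → ℂ) 1)).card = N.index := by
  rw [← Helper82.sum_sq_charDegree_ker N, Finset.card_eq_sum_ones]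
  apply Finset.sum_congr rfl
  intro χ hχ
  simp only [Finset.mem_filter, Finset.mem_univ, true_and] at hχ
  rw [charDegree_eq_one_of_commutator_le_ker χ (fun x hx => hχ x (hN hx))]
  rfl

open Classical in
theorem fs_mod_four [Fintype (IrrCharacter G)]
    (hd : ∀ χ : IrrCharacter G, charDegree (χ : G → ℂ) = 1 ∨ charDegree (χ : G → ℂ) = 2 ∨
      4 ∣ charDegree (χ : G → ℂ)) :
    (1 + Nat.card {x : G // orderOf x = 2}) % 4 = ((sqSub G).index +
      2 * (Finset.univ.filter (fun χ : IrrCharacter G =>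
        charDegree (χ : G → ℂ) = 2 ∧ ∀ g : G, ((χ : G → ℂ) g).im = 0)).card) % 4 := by
  have h := congrArg (Int.cast : ℤ → ZMod 4) (fs_count_int (G := G))
  have hterm : ∀ χ : IrrCharacter G,
      ((fsNuZ (χ : G → ℂ) * (charDegree (χ : G → ℂ) : ℤ) : ℤ) : ZMod 4) =
      (if ∀ x ∈ sqSub G, (χ : G → ℂ) x = (χ : G → ℂ) 1 then 1 else 0) +
      2 * (if charDegree (χ : G → ℂ) = 2 ∧ ∀ g : G, ((χ : G → ℂ) g).im = 0 then 1 else 0) := by
    intro χ
    by_cases hK : ∀ x ∈ sqSub G, (χ : G → ℂ) x = (χ : G → ℂ) 1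
    · obtain ⟨h1, h2⟩ := fsNuZ_eq_one_of_sqSub_le_ker χ hK
      rw [if_pos hK, if_neg (by rw [h1]; simp), h1, h2]
      simp
    · rw [if_neg hK]
      rcases hd χ with h1 | h1 | h1
      · rw [fsNuZ_eq_zero_of_linear χ h1 hK, if_neg (by rw [h1]; simp)]
        simp
      · by_cases hr : ∀ g : G, ((χ : G → ℂ) g).im = 0
        · rw [if_pos ⟨h1, hr⟩, h1]
          have h3 : fsNuZ (χ : G → ℂ) ≠ 0 := by
            rw [Ne, fsNuZ_eq_zero_iff χ.2]
            push Not
            exact hr
          rcases fsNuZ_cases (χ : G → ℂ) with h4 | h4 | h4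
          · exact absurd h4 h3
          · rw [h4]; decide
          · rw [h4]; decide
        · rw [if_neg (fun h => hr h.2)]
          have h3 : fsNuZ (χ : G → ℂ) = 0 := by
            rw [fsNuZ_eq_zero_iff χ.2]
            push Not at hr
            exact hr
          rw [h3]; simp
      · obtain ⟨c, hc⟩ := h1
        rw [if_neg (by rw [hc]; omega), hc]
        push_cast
        have : (4 : ZMod 4) = 0 := by decide
        rw [this]; simp
  rw [Int.cast_sum, Finset.sum_congr rfl (fun χ _ => hterm χ), Finset.sum_add_distrib,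
    ← Finset.mul_sum, Finset.sum_boole, Finset.sum_boole,
    card_filter_ker_eq_index (sqSub G) commutator_le_sqSub] at h
  rw [← ZMod.natCast_eq_natCast_iff']
  push_cast at h ⊢
  exact h

open Classical in
theorem card_mod_eight [Fintype (IrrCharacter G)]
    (hd : ∀ χ : IrrCharacter G, charDegree (χ : G → ℂ) = 1 ∨ charDegree (χ : G → ℂ) = 2 ∨
      4 ∣ charDegree (χ : G → ℂ)) :
    Nat.card G % 8 = ((commutator G).index +
      4 * (Finset.univ.filter (fun χ : IrrCharacter G => charDegree (χ : G → ℂ) = 2)).card) % 8 := by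
  have h := congrArg (Nat.cast : ℕ → ZMod 8) (Helper82.sum_sq_charDegree (G := G))
  have hterm : ∀ χ : IrrCharacter G,
      ((charDegree (χ : G → ℂ) ^ 2 : ℕ) : ZMod 8) =
      (if ∀ x ∈ commutator G, (χ : G → ℂ) x = (χ : G → ℂ) 1 then 1 else 0) +
      4 * (if charDegree (χ : G → ℂ) = 2 then 1 else 0) := by
    intro χ
    rcases hd χ with h1 | h1 | h1
    · rw [if_pos (commutator_le_ker_of_charDegree_eq_one χ h1), if_neg (by rw [h1]; simp), h1]
      simp
    · rw [if_neg (fun hh => by
        have := charDegree_eq_one_of_commutator_le_ker χ hh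
        omega), if_pos h1, h1]
      decide
    · obtain ⟨c, hc⟩ := h1
      rw [if_neg (fun hh => by
        have := charDegree_eq_one_of_commutator_le_ker χ hh
        omega), if_neg (by rw [hc]; omega), hc]
      have h16 : ((4 * c) ^ 2 : ℕ) = 8 * (2 * c ^ 2) := by ring
      rw [h16]
      push_cast
      have : (8 : ZMod 8) = 0 := by decide
      rw [this]; simp
  rw [Nat.cast_sum, Finset.sum_congr rfl (fun χ _ => hterm χ), Finset.sum_add_distrib,
    ← Finset.mul_sum, Finset.sum_boole, Finset.sum_boole,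
    card_filter_ker_eq_index (commutator G) le_rfl] at h
  rw [← ZMod.natCast_eq_natCast_iff']
  push_cast at h ⊢
  exact h.symm

end Cfsg.Agent.Lib.Helper78
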