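import Mathlib
import Cfsg.Prelude.Def_Characters

set_option autoImplicit false

namespace Cfsg.Agent.Lib.Helper78

open Module

/-- An endomorphism of finite order of a finite-dimensional complex space is diagonalisable:
there is a finite family of eigenvalues (roots of unity) computing the traces of all powers and
the determinant. -/
theorem exists_eigen_family {V : Type*} [AddCommGroup V] [Module ℂ V] [FiniteDimensional ℂ V]
    (f : End ℂ V) (n : ℕ) (hn : 0 < n) (hf : f ^ n = 1) :
    ∃ (ι : Type) (_ : Fintype ι) (d : ι → ℂ), (∀ i, d i ^ n = 1) ∧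
      (∀ k : ℕ, LinearMap.trace ℂ V (f ^ k) = ∑ i, d i ^ k) ∧ LinearMap.det f = ∏ i, d i := by
  classical
  have hss : f.IsSemisimple := by
    apply Module.End.isSemisimple_of_squarefree_aeval_eq_zero
      (p := Polynomial.X ^ n - Polynomial.C (1 : ℂ))
    · exact (Polynomial.separable_X_pow_sub_C (1 : ℂ) (by exact_mod_cast hn.ne') one_ne_zero).squarefree
    · simp [hf]
  have htop := hss.iSup_eigenspace_eq_top
  have hint : DirectSum.IsInternal f.eigenspace :=
    DirectSum.isInternal_submodule_of_iSupIndep_of_iSup_eq_top f.eigenspaces_iSupIndep htop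
  let b := hint.collectedBasis (fun μ => Module.finBasis ℂ (f.eigenspace μ))
  haveI : Fintype (Σ μ : ℂ, Fin (finrank ℂ (f.eigenspace μ))) :=
    FiniteDimensional.fintypeBasisIndex b
  have hb : ∀ x, f (b x) = x.1 • b x := by
    intro x
    have := hint.collectedBasis_mem (fun μ => Module.finBasis ℂ (f.eigenspace μ)) x
    exact Module.End.mem_eigenspace_iff.mp this
  have hmat : LinearMap.toMatrix b b f = Matrix.diagonal (fun x => x.1) := by
    ext i j
    rw [LinearMap.toMatrix_apply, hb j, map_smul, Finsupp.smul_apply, Basis.repr_self,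
      Matrix.diagonal_apply, Finsupp.single_apply]
    by_cases h : i = j
    · subst h; simp
    · rw [if_neg (fun h' => h h'.symm), if_neg h]; simp
  refine ⟨(Σ μ : ℂ, Fin (finrank ℂ (f.eigenspace μ))), inferInstance, fun x => x.1, ?_, ?_, ?_⟩
  · intro x
    have hx0 : b x ≠ 0 := b.ne_zero x
    have : (f ^ n) (b x) = x.1 ^ n • b x := by
      generalize n = k
      induction k with
      | zero => simp
      | succ k ih => rw [pow_succ', Module.End.mul_apply, ih, map_smul, hb x, smul_smul, pow_succ]
    rw [hf] at this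
    have h2 : (x.1 ^ n - 1) • b x = 0 := by
      rw [sub_smul, ← this]; simp
    rcases smul_eq_zero.mp h2 with h | h
    · exact sub_eq_zero.mp h
    · exact absurd h hx0
  · intro k
    rw [LinearMap.trace_eq_matrix_trace ℂ b, ← LinearMap.toMatrix_pow, hmat, Matrix.diagonal_pow,
      Matrix.trace_diagonal]
    rfl
  · rw [← LinearMap.det_toMatrix b, hmat, Matrix.det_diagonal]

/-- Eigenvalue family of an element in a representation affording a character of a perfect group:
the product of the eigenvalues is one. -/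
theorem exists_eigen_family_of_perfect {G : Type*} [Group G] (hperf : commutator G = ⊤)
    {χ : G → ℂ} (hχ : Cfsg.IsCharacter G χ) (g : G) (n : ℕ) (hn : 0 < n) (hg : g ^ n = 1) :
    ∃ (ι : Type) (_ : Fintype ι) (d : ι → ℂ), (∀ i, d i ^ n = 1) ∧
      (∀ k : ℕ, χ (g ^ k) = ∑ i, d i ^ k) ∧ ∏ i, d i = 1 := by
  obtain ⟨m, ρ, rfl⟩ := hχ
  obtain ⟨ι, hι, d, h1, h2, h3⟩ := exists_eigen_family (ρ g) n hn (by rw [← map_pow, hg, map_one])
  refine ⟨ι, hι, d, h1, ?_, ?_⟩
  · intro k
    rw [← h2 k, Representation.character, map_pow]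
  · rw [← h3]
    let D : G →* ℂ := (LinearMap.det : ((Fin m → ℂ) →ₗ[ℂ] (Fin m → ℂ)) →* ℂ).comp ρ
    have hker : commutator G ≤ D.toHomUnits.ker := Abelianization.commutator_subset_ker _
    have hg' : g ∈ D.toHomUnits.ker := hker (by rw [hperf]; trivial)
    have := congrArg Units.val (MonoidHom.mem_ker.1 hg')
    simpa [D] using this

end Cfsg.Agent.Lib.Helper78
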