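import Mathlib
import Cfsg.Agent.Lib.Helper78.EigenDet
import Cfsg.Agent.Lib.Helper83.Frob

/-!
# Tools for characters of degree `p - 1`: eigenvalue products, vanishing on cosets
-/

set_option autoImplicit false
open Cfsg
open scoped ComplexConjugate

namespace Cfsg.Agent.Lib.Helper78

open Cfsg.Agent.Lib.Helper83

theorem prod_nthRoots_eq_neg_one (q : ℕ) (hq0 : 0 < q) (hq : Even q) :
    ∏ ζ ∈ Polynomial.nthRootsFinset q (1 : ℂ), ζ = -1 := by
  have hprim := Complex.isPrimitiveRoot_exp q hq0.ne'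
  have h1 := Polynomial.X_pow_sub_one_eq_prod hq0 hprim
  have h2 := congrArg (Polynomial.eval 0) h1
  rw [Polynomial.eval_prod] at h2
  simp only [Polynomial.eval_sub, Polynomial.eval_pow, Polynomial.eval_X, Polynomial.eval_one,
    Polynomial.eval_C, zero_sub, zero_pow hq0.ne'] at h2
  rw [Finset.prod_neg, hprim.card_nthRootsFinset, hq.neg_one_pow, one_mul] at h2
  exact h2.symm

/-- a family of `q`-th roots of unity whose power sums vanish contains every root equally often;
its product is `-1` if `q` is even and the multiplicity is odd. -/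
theorem prod_eq_neg_one_of_powerSums {ι : Type} [Fintype ι] (d : ι → ℂ) (q t : ℕ) (hq0 : 0 < q)
    (hq : Even q) (ht : Odd t) (hd : ∀ i, d i ^ q = 1) (h0 : Fintype.card ι = t * q)
    (hk : ∀ k, 0 < k → k < q → ∑ i, d i ^ k = 0) : ∏ i, d i = -1 := by
  classical
  set S := Polynomial.nthRootsFinset q (1 : ℂ) with hS
  have hmem : ∀ z : ℂ, z ∈ S ↔ z ^ q = 1 := fun z => Polynomial.mem_nthRootsFinset hq0 1
  have hgeom : ∀ z : ℂ, z ^ q = 1 →
      ∑ k ∈ Finset.range q, z ^ k = if z = 1 then (q : ℂ) else 0 := by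
    intro z hz
    split_ifs with h
    · subst h; simp
    · have h1 := mul_geom_sum z q
      rw [hz, sub_self] at h1
      exact (mul_eq_zero.1 h1).resolve_left (sub_ne_zero.2 h)
  have hcount : ∀ ζ ∈ S, (Finset.univ.filter (fun i => d i = ζ)).card = t := by
    intro ζ hζ
    have hζq := (hmem ζ).1 hζ
    have hζ0 : ζ ≠ 0 := by
      rintro rfl
      rw [zero_pow hq0.ne'] at hζq
      exact zero_ne_one hζq
    have h1 : ∑ i, ∑ k ∈ Finset.range q, (d i * ζ⁻¹) ^ k
        = (q : ℂ) * ((Finset.univ.filter (fun i => d i = ζ)).card : ℂ) := by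
      have h2 : ∀ i, ∑ k ∈ Finset.range q, (d i * ζ⁻¹) ^ k = if d i = ζ then (q : ℂ) else 0 := by
        intro i
        rw [hgeom _ (by rw [mul_pow, hd i, inv_pow, hζq]; simp)]
        have h3 : d i * ζ⁻¹ = 1 ↔ d i = ζ := by
          constructor
          · intro h
            have := congrArg (· * ζ) h
            simpa [mul_assoc, inv_mul_cancel₀ hζ0] using this
          · intro h; rw [h]; exact mul_inv_cancel₀ hζ0
        simp only [h3]
      simp_rw [h2]
      rw [← Finset.sum_filter, Finset.sum_const, nsmul_eq_mul, mul_comm]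
    have h2 : ∑ i, ∑ k ∈ Finset.range q, (d i * ζ⁻¹) ^ k = ((t * q : ℕ) : ℂ) := by
      rw [Finset.sum_comm]
      have h3 : ∀ k ∈ Finset.range q, ∑ i, (d i * ζ⁻¹) ^ k
          = if k = 0 then ((t * q : ℕ) : ℂ) else 0 := by
        intro k hk'
        simp_rw [mul_pow]
        rw [← Finset.sum_mul]
        split_ifs with h
        · subst h; simp [h0]
        · rw [hk k (Nat.pos_of_ne_zero h) (Finset.mem_range.1 hk'), zero_mul]
      rw [Finset.sum_congr rfl h3, Finset.sum_ite_eq' (Finset.range q) 0,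
        if_pos (Finset.mem_range.2 hq0)]
    rw [h1] at h2
    have hq' : (q : ℂ) ≠ 0 := by exact_mod_cast hq0.ne'
    have h4 : ((Finset.univ.filter (fun i => d i = ζ)).card : ℂ) = (t : ℂ) := by
      apply mul_left_cancel₀ hq'
      rw [h2]; push_cast; ring
    exact_mod_cast h4
  calc ∏ i, d i = ∏ ζ ∈ S, ∏ i ∈ Finset.univ.filter (fun i => d i = ζ), d i :=
        (Finset.prod_fiberwise_of_maps_to (fun i _ => (hmem _).2 (hd i)) _).symm
    _ = ∏ ζ ∈ S, ζ ^ t := by
        apply Finset.prod_congr rfl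
        intro ζ hζ
        rw [Finset.prod_congr rfl (fun i hi => (Finset.mem_filter.1 hi).2), Finset.prod_const,
          hcount ζ hζ]
    _ = (∏ ζ ∈ S, ζ) ^ t := Finset.prod_pow _ _ _
    _ = -1 := by rw [prod_nthRoots_eq_neg_one q hq0 hq, ht.neg_one_pow]

/-- If the restriction of the irreducible character `χ` to `P` does not contain the trivial
character, the sum of `χ` over every coset of `P` vanishes. -/
theorem sum_coset_eq_zero {G : Type*} [Group G] [Fintype G] {χ : G → ℂ}
    (hχ : IsIrrCharacter G χ) (P : Subgroup G) [Fintype P] (h0 : ∑ u : P, χ u = 0) (g : G) :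
    ∑ u : P, χ (g * u) = 0 := by
  classical
  have hc := IsIrr.isChar hχ
  have key : ∑ a : G, (∑ u : P, χ (a * u)) * conj (∑ v : P, χ (a * v)) = 0 := by
    simp_rw [map_sum, Finset.sum_mul_sum, ← isChar_inv hc]
    rw [Finset.sum_comm]
    apply Finset.sum_eq_zero
    intro u _
    rw [Finset.sum_comm]
    have h1 : ∀ v : P, ∑ a : G, χ (a * u) * χ (a * v)⁻¹
        = (Nat.card G : ℂ) / χ 1 * χ ((v⁻¹ * u : P) : G) := by
      intro v
      have h2 := gen_orth hχ hχ ((v : G)⁻¹ * u)
      rw [if_pos rfl] at h2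
      have h3 : ∑ a : G, χ (a * u) * χ (a * v)⁻¹ = ∑ h : G, χ h⁻¹ * χ (h * ((v : G)⁻¹ * u)) := by
        apply Fintype.sum_equiv (Equiv.mulRight (v : G))
        intro a
        simp only [Equiv.coe_mulRight]
        rw [mul_comm]
        congr 2
        group
      rw [h3, h2]
      push_cast
      ring
    rw [Finset.sum_congr rfl (fun v _ => h1 v), ← Finset.mul_sum]
    have h4 : ∑ v : P, χ ((v⁻¹ * u : P) : G) = ∑ w : P, χ w :=
      Fintype.sum_equiv ((Equiv.inv P).trans (Equiv.mulRight u)) _ _ (fun v => rfl)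
    rw [h4, h0, mul_zero]
  have h5 : ∀ a : G, (∑ u : P, χ (a * u)) * conj (∑ v : P, χ (a * v))
      = ((Complex.normSq (∑ u : P, χ (a * u)) : ℝ) : ℂ) := fun a => Complex.mul_conj _
  simp_rw [h5] at key
  have h6 : ∑ a : G, Complex.normSq (∑ u : P, χ (a * u)) = 0 := by exact_mod_cast key
  have h7 := (Finset.sum_eq_zero_iff_of_nonneg (fun a _ => Complex.normSq_nonneg _)).1 h6 g
    (Finset.mem_univ g)
  exact Complex.normSq_eq_zero.1 h7

/-- An irreducible character whose restriction to `P` does not contain the trivial character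
vanishes at the elements normalising `P` and acting freely on it. -/
theorem eq_zero_of_free {G : Type*} [Group G] [Fintype G] {χ : G → ℂ}
    (hχ : IsIrrCharacter G χ) (P : Subgroup G) [Fintype P] (h0 : ∑ u : P, χ u = 0) (g : G)
    (hg : g ∈ Subgroup.normalizer (P : Set G)) (hfree : ∀ u ∈ P, g * u = u * g → u = 1) :
    χ g = 0 := by
  classical
  have hc := IsIrr.isChar hχ
  have hg' : ∀ v : G, v ∈ P → g⁻¹ * v * g ∈ P := by
    intro v hv
    have := (Subgroup.mem_normalizer_iff.1 (Subgroup.inv_mem _ hg) v).1 hv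
    simpa using this
  let φ : P → P := fun v => ⟨g⁻¹ * (v : G)⁻¹ * g * v, P.mul_mem (hg' _ (P.inv_mem v.2)) v.2⟩
  have hinj : Function.Injective φ := by
    intro v w hvw
    have h1 : g⁻¹ * (v : G)⁻¹ * g * v = g⁻¹ * (w : G)⁻¹ * g * w := congrArg Subtype.val hvw
    have h2 : g * ((v : G) * (w : G)⁻¹) = ((v : G) * (w : G)⁻¹) * g := by
      have h3 : (v : G)⁻¹ * g * v = (w : G)⁻¹ * g * w := by
        have := congrArg (g * ·) h1
        simpa [mul_assoc] using this
      calc g * ((v : G) * (w : G)⁻¹) = v * ((v : G)⁻¹ * g * v) * (w : G)⁻¹ := by group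
        _ = v * ((w : G)⁻¹ * g * w) * (w : G)⁻¹ := by rw [h3]
        _ = ((v : G) * (w : G)⁻¹) * g := by group
    have h4 := hfree _ (P.mul_mem v.2 (P.inv_mem w.2)) h2
    exact Subtype.ext (mul_inv_eq_one.1 h4)
  have hsurj : Function.Surjective φ := Finite.injective_iff_surjective.1 hinj
  have h1 : ∀ u : P, χ (g * u) = χ g := by
    intro u
    obtain ⟨v, rfl⟩ := hsurj u
    have h2 : g * ((φ v : P) : G) = (v : G)⁻¹ * g * ((v : G)⁻¹)⁻¹ := by
      show g * (g⁻¹ * (v : G)⁻¹ * g * v) = _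
      group
    rw [h2, isChar_conj hc]
  have h2 := sum_coset_eq_zero hχ P h0 g
  rw [Finset.sum_congr rfl (fun u _ => h1 u), Finset.sum_const, nsmul_eq_mul] at h2
  have h3 : ((Finset.univ : Finset P).card : ℂ) ≠ 0 := by
    rw [Finset.card_univ]
    exact_mod_cast Fintype.card_ne_zero
  exact (mul_eq_zero.1 h2).resolve_left h3

/-- The determinant character, evaluated through an eigenvalue family. -/
theorem exists_det_hom {G : Type*} [Group G] {χ : G → ℂ} (hχ : IsCharacter G χ) :
    ∃ D : G →* ℂ, ∀ (g : G) (n : ℕ), 0 < n → g ^ n = 1 →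
      ∃ (ι : Type) (_ : Fintype ι) (d : ι → ℂ), (∀ i, d i ^ n = 1) ∧
        (∀ k : ℕ, χ (g ^ k) = ∑ i, d i ^ k) ∧ D g = ∏ i, d i := by
  obtain ⟨m, ρ, rfl⟩ := hχ
  refine ⟨(LinearMap.det : ((Fin m → ℂ) →ₗ[ℂ] (Fin m → ℂ)) →* ℂ).comp ρ, ?_⟩
  intro g n hn hg
  obtain ⟨ι, hι, d, h1, h2, h3⟩ := exists_eigen_family (ρ g) n hn (by rw [← map_pow, hg, map_one])
  refine ⟨ι, hι, d, h1, ?_, h3⟩
  intro k
  rw [← h2 k, Representation.character, map_pow]

end Cfsg.Agent.Lib.Helper78
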