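import Cfsg.Agent.Lib.Helper78.FrobSchur2
import Cfsg.Agent.Lib.Helper82.Codegree

set_option autoImplicit false

namespace Cfsg.Agent.Lib.Helper78

open scoped ComplexConjugate
open Cfsg.Agent.Lib.Helper82 (trivIrr)

variable {G : Type*} [Group G] [Fintype G]

/-- integer valued Frobenius–Schur indicator -/
noncomputable def fsNuZ (χ : G → ℂ) : ℤ := by
  classical
  exact if fsNu χ = 1 then 1 else if fsNu χ = -1 then -1 else 0

theorem fsNuZ_cast {χ : G → ℂ} (hχ : Cfsg.IsIrrCharacter G χ) : (fsNuZ χ : ℂ) = fsNu χ := by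
  unfold fsNuZ
  rcases (fsNu_irr hχ).1 with h | h | h
  · rw [h]; norm_num
  · rw [h]; norm_num
  · rw [h]
    have : (-1 : ℂ) ≠ 1 := by norm_num
    simp [this]

theorem fsNuZ_cases (χ : G → ℂ) : fsNuZ χ = 0 ∨ fsNuZ χ = 1 ∨ fsNuZ χ = -1 := by
  unfold fsNuZ
  split_ifs <;> simp

theorem fsNuZ_eq_zero_iff {χ : G → ℂ} (hχ : Cfsg.IsIrrCharacter G χ) :
    fsNuZ χ = 0 ↔ ∃ s : G, (χ s).im ≠ 0 := by
  rw [← (fsNu_irr hχ).2, ← fsNuZ_cast hχ]
  norm_cast

theorem fsNu_triv : fsNu (fun _ : G => (1 : ℂ)) = 1 := by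
  unfold fsNu
  rw [Finset.sum_const, Finset.card_univ, ← Nat.card_eq_fintype_card, nsmul_eq_mul, mul_one,
    inv_mul_cancel₀ Helper20.card_ne_zero_complex]

theorem fsNuZ_triv : fsNuZ (fun _ : G => (1 : ℂ)) = 1 := by
  unfold fsNuZ
  rw [fsNu_triv]; simp

omit [Fintype G] in
theorem mul_self_eq_one_iff' (s : G) : s * s = 1 ↔ s = 1 ∨ orderOf s = 2 := by
  constructor
  · intro h
    have h1 : orderOf s ∣ 2 := orderOf_dvd_of_pow_eq_one (by rw [pow_two]; exact h)
    rcases (Nat.dvd_prime Nat.prime_two).1 h1 with h2 | h2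
    · exact Or.inl (orderOf_eq_one_iff.1 h2)
    · exact Or.inr h2
  · rintro (rfl | h)
    · simp
    · rw [← pow_two, ← h, pow_orderOf_eq_one]

theorem card_mul_self_eq_one :
    Nat.card {s : G // s * s = 1} = 1 + Nat.card {x : G // orderOf x = 2} := by
  classical
  rw [Nat.card_eq_fintype_card, Nat.card_eq_fintype_card, Fintype.card_subtype,
    Fintype.card_subtype]
  have h1 : (Finset.univ.filter (fun s : G => s * s = 1)) =
      insert 1 (Finset.univ.filter (fun s : G => orderOf s = 2)) := by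
    ext s
    simp [mul_self_eq_one_iff']
  rw [h1, Finset.card_insert_of_notMem (by simp), add_comm]

/-- Frobenius–Schur count over the integers -/
theorem fs_count_int [Fintype (Cfsg.IrrCharacter G)] :
    (1 + Nat.card {x : G // orderOf x = 2} : ℤ) =
      ∑ χ : Cfsg.IrrCharacter G, fsNuZ (χ : G → ℂ) * (Cfsg.charDegree (χ : G → ℂ) : ℤ) := by
  have h := fs_count (G := G)
  rw [card_mul_self_eq_one, finsum_eq_sum_of_fintype] at h
  have h2 : ∀ χ : Cfsg.IrrCharacter G, fsNu (χ : G → ℂ) * (χ : G → ℂ) 1 =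
      ((fsNuZ (χ : G → ℂ) * (Cfsg.charDegree (χ : G → ℂ) : ℤ) : ℤ) : ℂ) := by
    intro χ
    rw [Helper82.isChar_one_eq (Helper82.isIrr_isChar χ.2), ← fsNuZ_cast χ.2]
    push_cast
    rfl
  simp only [h2] at h
  exact_mod_cast h

omit [Fintype G] in
theorem charDegree_triv : Cfsg.charDegree (fun _ : G => (1 : ℂ)) = 1 := by
  unfold Cfsg.charDegree
  simp

/-- the number of involutions is at most the sum of the degrees of the
nonprincipal real irreducible characters -/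
theorem fs_involutions_le [Fintype (Cfsg.IrrCharacter G)]
    [DecidablePred fun χ : Cfsg.IrrCharacter G => χ ≠ trivIrr G ∧ ∀ g : G, ((χ : G → ℂ) g).im = 0] :
    Nat.card {x : G // orderOf x = 2} ≤
      ∑ χ ∈ Finset.univ.filter (fun χ : Cfsg.IrrCharacter G =>
        χ ≠ trivIrr G ∧ ∀ g : G, ((χ : G → ℂ) g).im = 0), Cfsg.charDegree (χ : G → ℂ) := by
  classical
  have h := fs_count_int (G := G)
  rw [← Finset.add_sum_erase _ _ (Finset.mem_univ (trivIrr G))] at h
  have h1 : fsNuZ (trivIrr G : G → ℂ) * (Cfsg.charDegree (trivIrr G : G → ℂ) : ℤ) = 1 := by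
    change fsNuZ (fun _ : G => (1 : ℂ)) * (Cfsg.charDegree (fun _ : G => (1 : ℂ)) : ℤ) = 1
    rw [fsNuZ_triv, charDegree_triv]; simp
  rw [h1] at h
  have h2 : (Nat.card {x : G // orderOf x = 2} : ℤ) =
      ∑ χ ∈ Finset.univ.erase (trivIrr G), fsNuZ (χ : G → ℂ) * (Cfsg.charDegree (χ : G → ℂ) : ℤ) := by
    linarith
  have h3 : ∑ χ ∈ Finset.univ.erase (trivIrr G),
      fsNuZ (χ : G → ℂ) * (Cfsg.charDegree (χ : G → ℂ) : ℤ) ≤
      ∑ χ ∈ Finset.univ.erase (trivIrr G),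
        (if ∀ g : G, ((χ : G → ℂ) g).im = 0 then (Cfsg.charDegree (χ : G → ℂ) : ℤ) else 0) := by
    apply Finset.sum_le_sum
    intro χ _
    split_ifs with hr
    · have h0 : (0 : ℤ) ≤ (Cfsg.charDegree (χ : G → ℂ) : ℤ) := Int.natCast_nonneg _
      rcases fsNuZ_cases (χ : G → ℂ) with h4 | h4 | h4 <;> rw [h4] <;> linarith
    · have h4 : fsNuZ (χ : G → ℂ) = 0 := by
        rw [fsNuZ_eq_zero_iff χ.2]
        push Not at hr
        exact hr
      rw [h4, zero_mul]
  rw [← Finset.sum_filter] at h3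
  have h5 : (Finset.univ.erase (trivIrr G)).filter
      (fun χ : Cfsg.IrrCharacter G => ∀ g : G, ((χ : G → ℂ) g).im = 0) =
      Finset.univ.filter (fun χ : Cfsg.IrrCharacter G =>
        χ ≠ trivIrr G ∧ ∀ g : G, ((χ : G → ℂ) g).im = 0) := by
    ext χ; simp
  rw [h5, ← h2] at h3
  exact_mod_cast h3

end Cfsg.Agent.Lib.Helper78
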