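import Cfsg.Agent.Lib.Helper78.AFT
import Cfsg.Agent.Lib.Helper81.Vanish
import Cfsg.Agent.Lib.Helper21.DefectCard

set_option autoImplicit false
open Cfsg
open scoped ComplexConjugate
open Cfsg.Agent.Lib.Helper20 Cfsg.Agent.Lib.Helper81 Cfsg.Agent.Lib.Helper21

namespace Cfsg.Agent.Lib.Helper78

section General

variable {p : ℕ} {M : Ideal AlgInt}

/-- A sum over a set with a fixed point free involution, the sum of the two terms of each orbit being
in the local ideal, is in the local ideal. -/
theorem memLocalIdeal_sum_involution (hM : IsPModular p M) {α : Type*} [DecidableEq α]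
    (s : Finset α) (T : α → ℂ) (ι : α → α)
    (hι : ∀ a ∈ s, ι a ∈ s) (hιι : ∀ a ∈ s, ι (ι a) = a) (hne : ∀ a ∈ s, ι a ≠ a)
    (hT : ∀ a ∈ s, MemLocalIdeal M (T a + T (ι a))) : MemLocalIdeal M (∑ a ∈ s, T a) := by
  induction' h : s.card using Nat.strong_induction_on with n ih generalizing s
  rcases s.eq_empty_or_nonempty with rfl | ⟨a, ha⟩
  · simpa using memLocalIdeal_zero hM
  · have h1 : ι a ∈ s.erase a := Finset.mem_erase.2 ⟨hne a ha, hι a ha⟩
    rw [← Finset.add_sum_erase s T ha, ← Finset.add_sum_erase (s.erase a) T h1, ← add_assoc]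
    apply memLocalIdeal_add hM (hT a ha)
    have hsub : ∀ b ∈ (s.erase a).erase (ι a), b ∈ s := fun b hb =>
      Finset.mem_of_mem_erase (Finset.mem_of_mem_erase hb)
    apply ih ((s.erase a).erase (ι a)).card _ _ _ _ _ _ rfl
    · rw [Finset.card_erase_of_mem h1, Finset.card_erase_of_mem ha, ← h]
      have : 0 < s.card := Finset.card_pos.2 ⟨a, ha⟩
      omega
    · intro b hb
      have hbs := hsub b hb
      have hb1 : b ≠ ι a := Finset.ne_of_mem_erase hb
      have hb2 : b ≠ a := Finset.ne_of_mem_erase (Finset.mem_of_mem_erase hb)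
      refine Finset.mem_erase.2 ⟨?_, Finset.mem_erase.2 ⟨?_, hι b hbs⟩⟩
      · intro h2
        apply hb2
        rw [← hιι b hbs, h2, hιι a ha]
      · intro h2
        apply hb1
        rw [← hιι b hbs, h2]
    · intro b hb; exact hιι b (hsub b hb)
    · intro b hb; exact hne b (hsub b hb)
    · intro b hb; exact hT b (hsub b hb)

end General

variable {G : Type*} [Group G] [Fintype G] {M : Ideal AlgInt}

/-- The class of the inverses. -/
noncomputable def invClass (C : ConjClasses G) : ConjClasses G :=
  ConjClasses.mk (Quotient.out C)⁻¹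

omit [Fintype G] in
theorem isConj_inv_inv {g h : G} (hgh : IsConj g h) : IsConj g⁻¹ h⁻¹ := by
  obtain ⟨c, hc⟩ := isConj_iff.1 hgh
  rw [isConj_iff]
  refine ⟨c, ?_⟩
  rw [← hc]; group

theorem invClass_mk (g : G) : invClass (ConjClasses.mk g) = ConjClasses.mk g⁻¹ := by
  rw [invClass, ConjClasses.mk_eq_mk_iff_isConj]
  exact isConj_inv_inv (isConj_out g)

theorem invClass_invClass (C : ConjClasses G) : invClass (invClass C) = C := by
  have h1 : invClass C = ConjClasses.mk (Quotient.out C)⁻¹ := rfl
  rw [h1, invClass_mk, inv_inv]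
  exact Quotient.out_eq C

theorem isConj_out_invClass (C : ConjClasses G) :
    IsConj (Quotient.out (invClass C)) (Quotient.out C)⁻¹ := isConj_out _

theorem centralChar_inv (χ : IrrCharacter G) (g : G) :
    centralChar (χ : G → ℂ) g⁻¹ = centralChar (conjIrr χ : G → ℂ) g := by
  have h1 : Subgroup.centralizer ({g⁻¹} : Set G) = Subgroup.centralizer ({g} : Set G) := by
    ext x
    simp only [Subgroup.mem_centralizer_singleton_iff]
    constructor
    · intro h
      have : g * (x * g⁻¹) * g = g * (g⁻¹ * x) * g := by rw [h]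
      simpa [mul_assoc] using this.symm
    · intro h
      have : g⁻¹ * (x * g) * g⁻¹ = g⁻¹ * (g * x) * g⁻¹ := by rw [h]
      simpa [mul_assoc] using this.symm
  have hch := isCharacter_of_isIrrCharacter χ.2
  simp only [centralChar, conjIrr_apply]
  rw [h1, isCharacter_inv hch]
  obtain ⟨n, hn⟩ := isCharacter_apply_one hch
  rw [hn, Complex.conj_natCast]

theorem blockCoeff_inv (B : Set (IrrCharacter G)) (hB : ∀ χ, χ ∈ B → conjIrr χ ∈ B) (g : G) :
    blockCoeff B g⁻¹ = blockCoeff B g := by
  classical
  have : Finite (IrrCharacter G) := Helper20.finite_irrCharacter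
  have : Fintype (IrrCharacter G) := Fintype.ofFinite _
  simp only [blockCoeff, finsum_mem_irr]
  congr 1
  let e : IrrCharacter G ≃ IrrCharacter G :=
    ⟨conjIrr, conjIrr, conjIrr_conjIrr, conjIrr_conjIrr⟩
  rw [← Equiv.sum_comp e]
  apply Finset.sum_congr rfl; intro χ _
  have h1 : e χ ∈ B ↔ χ ∈ B := by
    constructor
    · intro h
      have := hB _ h
      rwa [show e χ = conjIrr χ from rfl, conjIrr_conjIrr] at this
    · exact hB χ
  simp only [h1]
  split_ifs
  · have hch := isCharacter_of_isIrrCharacter χ.2
    show conj ((χ : G → ℂ) 1) * conj (conj ((χ : G → ℂ) g⁻¹)) = _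
    rw [isCharacter_inv hch]
    obtain ⟨n, hn⟩ := isCharacter_apply_one hch
    rw [hn, Complex.conj_natCast, Complex.conj_conj]
  · rfl

/-- A nontrivial real class of elements of odd order has even size. -/
theorem even_index_centralizer_of_real {g : G} (hodd : Odd (orderOf g)) (hg1 : g ≠ 1)
    (hreal : IsConj g g⁻¹) : Even (Subgroup.centralizer ({g} : Set G)).index := by
  classical
  rw [← Helper81.card_isConj_eq_index, Nat.card_eq_fintype_card, Fintype.card_subtype]
  apply even_card_of_involution _ (fun x => x⁻¹)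
  · intro a ha
    rw [Finset.mem_filter] at ha ⊢
    exact ⟨Finset.mem_univ _, hreal.trans (isConj_inv_inv ha.2)⟩
  · intro a ha h
    rw [Finset.mem_filter] at ha
    obtain ⟨c, hc⟩ := isConj_iff.1 ha.2
    have hord : orderOf a = orderOf g := by
      rw [← hc]; exact (MulAut.conj c).orderOf_eq g
    have h2 : a ^ 2 = 1 := by
      rw [pow_two]
      nth_rewrite 1 [← h]
      exact inv_mul_cancel a
    have h3 : orderOf a ∣ 2 := orderOf_dvd_of_pow_eq_one h2
    rw [hord] at h3
    have h4 : orderOf g = 1 := by
      rcases (Nat.dvd_prime Nat.prime_two).1 h3 with h | h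
      · exact h
      · rw [h] at hodd; exact absurd hodd (by decide)
    exact hg1 (orderOf_eq_one_iff.1 h4)
  · intro a _; exact inv_inv a

/-- The key congruence: a locally integral class function `z`, invariant under inversion, vanishing
on `1` and on the elements of even order, is killed modulo the local ideal (over `2`) by the central
character of every irreducible character of odd degree lying in a self-conjugate block. -/
theorem omega_memLocalIdeal_of_inv (hM : IsPModular 2 M) {z : G → ℂ} (hzcl : IsClassFunction G z)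
    (hzR : ∀ g, MemLocalRing M (z g)) (hzinv : ∀ g, z g⁻¹ = z g)
    (hzsing : ∀ g, 2 ∣ orderOf g → z g = 0) (hz1 : z 1 = 0) (θ : IrrCharacter G)
    (hodd : Odd (charDegree (θ : G → ℂ)))
    (hθ : SameBlock M (θ : G → ℂ) (conjIrr θ : G → ℂ)) :
    MemLocalIdeal M (omega (θ : G → ℂ) z) := by
  classical
  have : Fintype (ConjClasses G) := Fintype.ofFinite _
  rw [omega_eq_sum_classes (irr_classFunction θ) hzcl,
    ← Finset.sum_filter_add_sum_filter_not Finset.univ (fun C => invClass C ≠ C)]
  apply memLocalIdeal_add hM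
  · apply memLocalIdeal_sum_involution hM _ _ invClass
    · intro C hC
      rw [Finset.mem_filter] at hC ⊢
      refine ⟨Finset.mem_univ _, ?_⟩
      rw [invClass_invClass]
      exact fun h => hC.2 h.symm
    · intro C _; exact invClass_invClass C
    · intro C hC; exact (Finset.mem_filter.1 hC).2
    · intro C _
      set g := Quotient.out C with hg
      rw [classFunction_isConj hzcl (isConj_out_invClass C), hzinv,
        centralChar_conj θ (isConj_out_invClass C), centralChar_inv, ← mul_add]
      apply memLocalIdeal_mul_left hM (hzR g)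
      have h1 : centralChar (θ : G → ℂ) g + centralChar (conjIrr θ : G → ℂ) g
          = ((2 : ℕ) : ℂ) * centralChar (θ : G → ℂ) g
            - (centralChar (θ : G → ℂ) g - centralChar (conjIrr θ : G → ℂ) g) := by
        push_cast; ring
      rw [h1]
      exact memLocalIdeal_sub hM
        (memLocalIdeal_mul_right hM (memLocalIdeal_p hM) (centralChar_memLocalRing hM θ g)) (hθ g)
  · apply memLocalIdeal_sum hM
    intro C hC
    have hC' : invClass C = C := by
      have := (Finset.mem_filter.1 hC).2
      simpa using this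
    set g := Quotient.out C with hg
    by_cases hg1 : g = 1
    · rw [hg1, hz1, zero_mul]; exact memLocalIdeal_zero hM
    by_cases hs : 2 ∣ orderOf g
    · rw [hzsing g hs, zero_mul]; exact memLocalIdeal_zero hM
    apply memLocalIdeal_mul_left hM (hzR g)
    have hreal : IsConj g g⁻¹ := by
      have h1 := isConj_out_invClass C
      rw [hC'] at h1
      exact h1
    have hev := even_index_centralizer_of_real (Nat.not_even_iff_odd.1
      (fun h => hs (even_iff_two_dvd.1 h))) hg1 hreal
    obtain ⟨m, hm⟩ := even_iff_two_dvd.1 hev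
    rw [centralChar, hm, irr_one_eq_charDegree]
    have h2 : (((2 * m : ℕ) : ℂ)) * (θ : G → ℂ) g / ((charDegree (θ : G → ℂ) : ℕ) : ℂ)
        = ((2 : ℕ) : ℂ) * (((m : ℂ) * (θ : G → ℂ) g) / ((charDegree (θ : G → ℂ) : ℕ) : ℂ)) := by
      push_cast; ring
    rw [h2]
    apply memLocalIdeal_mul_right hM (memLocalIdeal_p hM)
    apply memLocalRing_div hM
    · exact memLocalRing_mul hM (memLocalRing_natCast hM m) (memLocalRing_of_isIntegral hM
        (isCharacter_isIntegral (isCharacter_of_isIrrCharacter θ.2) g))
    · exact memLocalRing_natCast hM _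
    · rw [memLocalIdeal_natCast_iff hM]
      intro h
      exact (Nat.not_even_iff_odd.2 hodd) (even_iff_two_dvd.2 h)

/-- `ω_θ(z) - z(1) = ω_θ(z')` where `z'` is `z` with the value at `1` replaced by `0`. -/
theorem omega_sub_apply_one [DecidableEq G] (θ : IrrCharacter G) (z : G → ℂ) :
    omega (θ : G → ℂ) z - z 1 = omega (θ : G → ℂ) (fun g => if g = 1 then 0 else z g) := by
  have h10 := irr_one_ne_zero θ.2
  simp only [omega]
  rw [← Finset.add_sum_erase _ _ (Finset.mem_univ (1 : G)),
    ← Finset.add_sum_erase _ (fun g => (if g = 1 then 0 else z g) * (θ : G → ℂ) g / (θ : G → ℂ) 1)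
      (Finset.mem_univ (1 : G))]
  have h4 : ∀ g ∈ Finset.univ.erase (1 : G),
      (if g = 1 then 0 else z g) * (θ : G → ℂ) g / (θ : G → ℂ) 1
      = z g * (θ : G → ℂ) g / (θ : G → ℂ) 1 := by
    intro g hg
    simp only [if_neg (Finset.ne_of_mem_erase hg)]
  rw [Finset.sum_congr rfl h4]
  simp only [if_pos]
  field_simp
  ring

/-- For a self-conjugate `2`-block `B` and an irreducible character `θ` of odd degree in a
self-conjugate block, `ω_θ(e_B) ≡ a_B(1)`. -/
theorem omega_blockCoeff_sub_memLocalIdeal (hM : IsPModular 2 M) (B : Set (IrrCharacter G))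
    (hB : IsPBlock M B) (hBc : ∀ χ, χ ∈ B → conjIrr χ ∈ B) (θ : IrrCharacter G)
    (hodd : Odd (charDegree (θ : G → ℂ)))
    (hθ : SameBlock M (θ : G → ℂ) (conjIrr θ : G → ℂ)) :
    MemLocalIdeal M (omega (θ : G → ℂ) (blockCoeff B) - blockCoeff B 1) := by
  classical
  rw [omega_sub_apply_one]
  apply omega_memLocalIdeal_of_inv hM _ _ _ _ _ θ hodd hθ
  · intro x h
    have h1 : h * x * h⁻¹ = 1 ↔ x = 1 := by
      constructor
      · intro h1
        have : x = h⁻¹ * (h * x * h⁻¹) * h := by group
        rw [this, h1]; group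
      · rintro rfl; group
    simp only [h1]
    rw [blockCoeff_classFunction B x h]
  · intro g
    split_ifs
    · exact memLocalRing_zero hM
    · exact osima hM B hB g
  · intro g
    simp only [inv_eq_one]
    rw [blockCoeff_inv B hBc]
  · intro g hg
    rw [blockCoeff_eq_zero_of_singular hM B hB hg]
    simp
  · simp

/-- Conjugate characters of characters in the same block are in the same block. -/
theorem sameBlock_conjIrr {χ ψ : IrrCharacter G} (h : SameBlock M (χ : G → ℂ) (ψ : G → ℂ)) :
    SameBlock M (conjIrr χ : G → ℂ) (conjIrr ψ : G → ℂ) := by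
  intro g
  rw [← centralChar_inv, ← centralChar_inv]
  exact h g⁻¹

/-- A self-conjugate `2`-block containing a character of odd degree is the principal block. -/
theorem trivIrr_mem_of_self_conj (hM : IsPModular 2 M) (B : Set (IrrCharacter G))
    (hB : IsPBlock M B) (hBc : ∀ χ, χ ∈ B → conjIrr χ ∈ B) (χ : IrrCharacter G) (hχ : χ ∈ B)
    (hodd : Odd (charDegree (χ : G → ℂ))) : Helper82.trivIrr G ∈ B := by
  classical
  by_contra h1
  have h2 := omega_blockCoeff_sub_memLocalIdeal hM B hB hBc χ hodd
    (isPBlock_sameBlock hM hB hχ (hBc χ hχ))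
  have htriv : conjIrr (Helper82.trivIrr G) = Helper82.trivIrr G := by
    apply Subtype.ext; funext g
    simp [conjIrr_apply]
  have h3 := omega_blockCoeff_sub_memLocalIdeal hM B hB hBc (Helper82.trivIrr G)
    (by simp [charDegree]) (by rw [htriv]; exact sameBlock_refl hM _)
  rw [omega_blockCoeff, if_pos hχ] at h2
  rw [omega_blockCoeff, if_neg h1] at h3
  apply not_memLocalIdeal_one hM
  have := memLocalIdeal_sub hM h2 h3
  convert this using 1
  ring

end Cfsg.Agent.Lib.Helper78
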