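import Cfsg.Agent.Lib.Helper78.SelfCent

set_option autoImplicit false

namespace Cfsg.Agent.Lib.Helper78

open Subgroup
open scoped commutatorElement

variable {G : Type*} [Group G]

/-- the hypothesis passes to nontrivial powers -/
theorem sc_centralizer_of_mem {p : ℕ} (hp : p.Prime) {x : G} (hx : orderOf x = p)
    (hC : Subgroup.centralizer ({x} : Set G) = Subgroup.zpowers x) {y : G}
    (hy : y ∈ Subgroup.zpowers x) (hy1 : y ≠ 1) :
    Subgroup.centralizer ({y} : Set G) = Subgroup.zpowers x := by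
  have h1 := sc_zpowers_eq_of_mem hp hx hy hy1
  rw [← hC, ← Subgroup.centralizer_closure, ← Subgroup.centralizer_closure ({x} : Set G),
    ← Subgroup.zpowers_eq_closure, ← Subgroup.zpowers_eq_closure, h1]

theorem sc_ncard_fiber [Finite G] {p : ℕ} (hp : p.Prime) {x : G} (hx : orderOf x = p)
    (hC : Subgroup.centralizer ({x} : Set G) = Subgroup.zpowers x) {y : G}
    (hy : y ∈ Subgroup.zpowers x) (hy1 : y ≠ 1) :
    Set.ncard {z : G | z ∈ Subgroup.zpowers x ∧ IsConj y z} =
      (Subgroup.zpowers x).relIndex (Subgroup.normalizer ((Subgroup.zpowers x : Subgroup G) : Set G)) := by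
  set N := Subgroup.normalizer ((Subgroup.zpowers x : Subgroup G) : Set G) with hN
  let _ : MulAction N G := MulAction.compHom G (MulAut.conj.comp N.subtype)
  have hsmul : ∀ (n : N) (g : G), n • g = (n : G) * g * (n : G)⁻¹ := fun n g => rfl
  have h1 := MulAction.index_stabilizer N y
  have hzy := sc_zpowers_eq_of_mem hp hx hy hy1
  have h2 : MulAction.stabilizer N y = (Subgroup.zpowers x).subgroupOf N := by
    ext n
    rw [MulAction.mem_stabilizer_iff, hsmul, Subgroup.mem_subgroupOf,
      ← sc_centralizer_of_mem hp hx hC hy hy1, Subgroup.mem_centralizer_singleton_iff,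
      mul_inv_eq_iff_eq_mul]
  have h3 : MulAction.orbit N y = {z : G | z ∈ Subgroup.zpowers x ∧ IsConj y z} := by
    ext z
    simp only [MulAction.mem_orbit_iff, Set.mem_ofPred_eq, hsmul]
    constructor
    · rintro ⟨n, rfl⟩
      refine ⟨?_, isConj_iff.2 ⟨n, rfl⟩⟩
      exact (Subgroup.mem_normalizer_iff.1 n.2 y).1 hy
    · rintro ⟨hz, hc⟩
      obtain ⟨g, hg⟩ := isConj_iff.1 hc
      have hz1 : z ≠ 1 := by
        rintro rfl
        apply hy1
        have : y = g⁻¹ * (g * y * g⁻¹) * g := by group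
        rw [this, hg]; group
      have hzz := sc_zpowers_eq_of_mem hp hx hz hz1
      refine ⟨⟨g, ?_⟩, hg⟩
      rw [hN, sc_mem_normalizer_iff]
      have hxy : x ∈ Subgroup.zpowers y := by rw [hzy]; exact Subgroup.mem_zpowers x
      obtain ⟨k, hk⟩ := Subgroup.mem_zpowers_iff.1 hxy
      have h5 : g * x * g⁻¹ = z ^ k := by rw [← hk, ← conj_zpow, hg]
      rw [h5]
      exact Subgroup.zpow_mem _ hz k
  rw [← h3, ← h1, h2]
  rfl


theorem sc_card_classes [Finite G] {p : ℕ} (hp : p.Prime) {x : G} (hx : orderOf x = p)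
    (hC : Subgroup.centralizer ({x} : Set G) = Subgroup.zpowers x) :
    Nat.card {C : ConjClasses G // ∃ g ∈ C.carrier, orderOf g = p} *
      (Subgroup.zpowers x).relIndex
        (Subgroup.normalizer ((Subgroup.zpowers x : Subgroup G) : Set G)) = p - 1 := by
  classical
  have := Fintype.ofFinite G
  set q := (Subgroup.zpowers x).relIndex
        (Subgroup.normalizer ((Subgroup.zpowers x : Subgroup G) : Set G)) with hq
  let s : Finset G := Finset.univ.filter (fun y => y ∈ Subgroup.zpowers x ∧ y ≠ 1)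
  let T : Finset (ConjClasses G) := Finset.univ.filter (fun C => ∃ g ∈ C.carrier, orderOf g = p)
  have hs : s.card = p - 1 := by
    have h1 : (s : Set G) = ((Subgroup.zpowers x : Subgroup G) : Set G) \ {1} := by
      ext y; simp [s]
    have h2 : ((s : Set G)).ncard = p - 1 := by
      rw [h1, Set.ncard_sdiff_singleton_of_mem (Subgroup.one_mem _)]
      have h3 : (((Subgroup.zpowers x : Subgroup G) : Set G)).ncard = p := by
        rw [← hx, ← Nat.card_zpowers]; rfl
      rw [h3]
    rwa [Set.ncard_coe_finset] at h2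
  have hT : Nat.card {C : ConjClasses G // ∃ g ∈ C.carrier, orderOf g = p} = T.card := by
    rw [Nat.card_eq_fintype_card, Fintype.card_subtype]
  have hord : ∀ y ∈ Subgroup.zpowers x, y ≠ 1 → orderOf y = p := by
    intro y hy hy1
    rw [← Nat.card_zpowers, sc_zpowers_eq_of_mem hp hx hy hy1, Nat.card_zpowers, hx]
  have hmaps : ∀ y ∈ s, ConjClasses.mk y ∈ T := by
    intro y hy
    simp only [s, Finset.mem_filter, Finset.mem_univ, true_and] at hy
    simp only [T, Finset.mem_filter, Finset.mem_univ, true_and]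
    exact ⟨y, ConjClasses.mem_carrier_mk, hord y hy.1 hy.2⟩
  have h1 := Finset.card_eq_sum_card_fiberwise hmaps
  have h2 : ∀ C ∈ T, (s.filter (fun y => ConjClasses.mk y = C)).card = q := by
    intro C hCT
    simp only [T, Finset.mem_filter, Finset.mem_univ, true_and] at hCT
    obtain ⟨g, hgC, hg⟩ := hCT
    obtain ⟨h, hh⟩ := sc_pgroup_conj hp hx hC (Subgroup.zpowers g) (sc_isPGroup_zpowers hp hg)
    have hy0 := hh g (Subgroup.mem_zpowers g)
    have hy1 : h⁻¹ * g * h ≠ 1 := by
      intro h0
      apply sc_ne_one hp hg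
      have : g = h * (h⁻¹ * g * h) * h⁻¹ := by group
      rw [this, h0]; group
    have hCmk : C = ConjClasses.mk (h⁻¹ * g * h) := by
      rw [ConjClasses.mem_carrier_iff_mk_eq] at hgC
      rw [← hgC, ConjClasses.mk_eq_mk_iff_isConj, isConj_iff]
      exact ⟨h⁻¹, by group⟩
    rw [hq, ← sc_ncard_fiber hp hx hC hy0 hy1, ← Set.ncard_coe_finset]
    congr 1
    ext z
    simp only [s, Finset.coe_filter, Finset.mem_filter, Finset.mem_univ, true_and,
      Set.mem_ofPred_eq, hCmk, ConjClasses.mk_eq_mk_iff_isConj]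
    constructor
    · rintro ⟨⟨hz, _⟩, hc⟩
      exact ⟨hz, hc.symm⟩
    · rintro ⟨hz, hc⟩
      refine ⟨⟨hz, ?_⟩, hc.symm⟩
      rintro rfl
      exact hy1 (isConj_one_right.1 hc.symm)
  rw [Finset.sum_congr rfl h2, Finset.sum_const, smul_eq_mul, hs] at h1
  rw [hT, ← h1]


/-- if the normalizer of `zpowers x` is bigger than `zpowers x`, then `x ∈ G'`. -/
theorem sc_mem_commutator [Finite G] {p : ℕ} (hp : p.Prime) {x : G} (hx : orderOf x = p)
    (hC : Subgroup.centralizer ({x} : Set G) = Subgroup.zpowers x)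
    (hq : (Subgroup.zpowers x).relIndex
        (Subgroup.normalizer ((Subgroup.zpowers x : Subgroup G) : Set G)) ≠ 1) :
    x ∈ commutator G := by
  rw [Ne, Subgroup.relIndex_eq_one, SetLike.not_le_iff_exists] at hq
  obtain ⟨n, hn, hnx⟩ := hq
  have h1 : n * x * n⁻¹ ∈ Subgroup.zpowers x := sc_mem_normalizer_iff.1 hn
  have h2 : ⁅n, x⁆ ∈ Subgroup.zpowers x := by
    rw [commutatorElement_def]
    exact Subgroup.mul_mem _ h1 (Subgroup.inv_mem _ (Subgroup.mem_zpowers x))
  have h3 : ⁅n, x⁆ ≠ 1 := by
    intro h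
    apply hnx
    apply sc_mem_zpowers_of_commute hC
    rw [commutatorElement_eq_one_iff_mul_comm] at h
    exact h
  have h4 := sc_zpowers_eq_of_mem hp hx h2 h3
  have h5 : ⁅n, x⁆ ∈ commutator G := by
    rw [commutator_def]
    exact Subgroup.commutator_mem_commutator (Subgroup.mem_top n) (Subgroup.mem_top x)
  have h6 : Subgroup.zpowers ⁅n, x⁆ ≤ commutator G := by
    rw [Subgroup.zpowers_le]; exact h5
  rw [h4] at h6
  exact h6 (Subgroup.mem_zpowers x)

theorem sc_index_dvd_of_mem [Finite G] {p : ℕ} (hp : p.Prime) {x : G} (hx : orderOf x = p)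
    (hC : Subgroup.centralizer ({x} : Set G) = Subgroup.zpowers x) (S : Subgroup G) [S.Normal]
    (hxS : x ∈ S) :
    S.index ∣ (Subgroup.zpowers x).relIndex
        (Subgroup.normalizer ((Subgroup.zpowers x : Subgroup G) : Set G)) := by
  set N := Subgroup.normalizer ((Subgroup.zpowers x : Subgroup G) : Set G) with hN
  have hF := sc_frattini hp hx hC S hxS
  have h1 : S.index = S.relIndex N := by
    rw [← Subgroup.relIndex_top_right, ← hF, Subgroup.relIndex_sup_right]
  have h2 : Subgroup.zpowers x ≤ S ⊓ N := by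
    rw [Subgroup.zpowers_le]
    exact ⟨hxS, Subgroup.le_normalizer (Subgroup.mem_zpowers x)⟩
  have h3 := Subgroup.relIndex_mul_relIndex (Subgroup.zpowers x) (S ⊓ N) N h2 inf_le_right
  rw [Subgroup.inf_relIndex_right] at h3
  rw [h1, ← h3]
  exact Dvd.intro_left _ rfl

theorem sc_index_commutator_dvd [Finite G] {p : ℕ} (hp : p.Prime) {x : G} (hx : orderOf x = p)
    (hC : Subgroup.centralizer ({x} : Set G) = Subgroup.zpowers x)
    (hq : (Subgroup.zpowers x).relIndex
        (Subgroup.normalizer ((Subgroup.zpowers x : Subgroup G) : Set G)) ≠ 1) :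
    (commutator G).index ∣ (Subgroup.zpowers x).relIndex
        (Subgroup.normalizer ((Subgroup.zpowers x : Subgroup G) : Set G)) :=
  sc_index_dvd_of_mem hp hx hC _ (sc_mem_commutator hp hx hC hq)

/-- Burnside: if `N_G(⟨x⟩) = ⟨x⟩` there is a normal `p`-complement. -/
theorem sc_exists_normal_complement [Finite G] {p : ℕ} (hp : p.Prime) {x : G} (hx : orderOf x = p)
    (hC : Subgroup.centralizer ({x} : Set G) = Subgroup.zpowers x)
    (hq : (Subgroup.zpowers x).relIndex
        (Subgroup.normalizer ((Subgroup.zpowers x : Subgroup G) : Set G)) = 1) :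
    ∃ K : Subgroup G, K.Normal ∧ Nat.card K * p = Nat.card G ∧ ¬ p ∣ Nat.card K ∧
      commutator G ≤ K := by
  have : Fact p.Prime := ⟨hp⟩
  obtain ⟨P, hP⟩ := sc_exists_sylow hp hx hC
  rw [Subgroup.relIndex_eq_one] at hq
  have hcomm : ∀ u v : G, u ∈ Subgroup.zpowers x → v ∈ Subgroup.zpowers x → u * v = v * u := by
    intro u v hu hv
    obtain ⟨a, rfl⟩ := Subgroup.mem_zpowers_iff.1 hu
    obtain ⟨b, rfl⟩ := Subgroup.mem_zpowers_iff.1 hv
    rw [← zpow_add, ← zpow_add, add_comm]
  have hNC : Subgroup.normalizer ((P : Subgroup G) : Set G) ≤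
      Subgroup.centralizer ((P : Subgroup G) : Set G) := by
    rw [hP]
    intro n hn
    rw [Subgroup.mem_centralizer_iff]
    intro h hh
    exact hcomm _ _ hh (hq hn)
  have hcompl := MonoidHom.ker_transferSylow_isComplement' P hNC
  have hcard := hcompl.card_mul_card
  have hPc : Nat.card (P : Subgroup G) = p := by rw [hP, Nat.card_zpowers, hx]
  rw [hPc] at hcard
  refine ⟨(MonoidHom.transferSylow P hNC).ker, inferInstance, hcard, ?_, ?_⟩
  · intro hdvd
    have hf := sc_factorization hp hx hC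
    have h2 : p ^ 2 ∣ Nat.card G := by
      rw [← hcard, pow_two]
      exact Nat.mul_dvd_mul_right hdvd p
    have h3 := (hp.pow_dvd_iff_le_factorization (Nat.card_pos.ne')).1 h2
    omega
  · rw [commutator_def, Subgroup.commutator_le]
    intro a _ b _
    rw [MonoidHom.mem_ker, map_commutatorElement, commutatorElement_eq_one_iff_mul_comm]
    ext
    apply hcomm
    · rw [← hP]; exact (MonoidHom.transferSylow P hNC a).2
    · rw [← hP]; exact (MonoidHom.transferSylow P hNC b).2

theorem sc_index_commutator_eq [Finite G] {p : ℕ} (hp : p.Prime) {x : G} (hx : orderOf x = p)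
    (hC : Subgroup.centralizer ({x} : Set G) = Subgroup.zpowers x)
    (hS : ¬ p ∣ Nat.card (commutator G)) :
    (commutator G).index = p ∧ (⊤ : Subgroup (G ⧸ commutator G)) =
      Subgroup.zpowers (QuotientGroup.mk x : G ⧸ commutator G) := by
  have h1 := sc_centralizer_mk hp hx hC (commutator G) hS
  have h2 := sc_orderOf_mk hp hx (commutator G) hS
  have h3 : Subgroup.centralizer ({(QuotientGroup.mk x : G ⧸ commutator G)} : Set (G ⧸ commutator G))
      = ⊤ := by
    rw [eq_top_iff]
    intro g _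
    rw [Subgroup.mem_centralizer_singleton_iff]
    have : IsMulCommutative (G ⧸ commutator G) :=
      Subgroup.Normal.quotient_commutative_iff_commutator_le.2 le_rfl
    exact mul_comm' g _
  rw [h3] at h1
  refine ⟨?_, h1⟩
  rw [Subgroup.index, ← Subgroup.card_top, h1, Nat.card_zpowers, h2]

end Cfsg.Agent.Lib.Helper78
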